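import Mathlib

/-!
# The group `GL(3, 2)`

A subgroup containing the upper unitriangular matrices and having no character of order two is everything, and the
group has no proper nontrivial normal subgroup.  The finite checks run on tuples of entries.
-/

set_option autoImplicit false
set_option linter.unusedSectionVars false
set_option linter.style.haveILetI false
set_option maxRecDepth 100000
set_option synthInstance.maxSize 8000
set_option synthInstance.maxHeartbeats 400000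

namespace Cfsg.Agent.Fus.RudTransfer.Gl

open Matrix

abbrev G3 := GL (Fin 3) (ZMod 2)

/-- Three rows of three entries. -/
abbrev M3 := (ZMod 2 × ZMod 2 × ZMod 2) × (ZMod 2 × ZMod 2 × ZMod 2) × (ZMod 2 × ZMod 2 × ZMod 2)

/-- Multiplication. -/
def mul : M3 → M3 → M3
  | ((a, b, c), (d, e, f), (g, h, i)), ((a', b', c'), (d', e', f'), (g', h', i')) =>
    ((a * a' + b * d' + c * g', a * b' + b * e' + c * h', a * c' + b * f' + c * i'),
     (d * a' + e * d' + f * g', d * b' + e * e' + f * h', d * c' + e * f' + f * i'),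
     (g * a' + h * d' + i * g', g * b' + h * e' + i * h', g * c' + h * f' + i * i'))

/-- The determinant. -/
def det : M3 → ZMod 2
  | ((a, b, c), (d, e, f), (g, h, i)) =>
    a * e * i - a * f * h - b * d * i + b * f * g + c * d * h - c * e * g

/-- The adjugate. -/
def adj : M3 → M3
  | ((a, b, c), (d, e, f), (g, h, i)) =>
    ((e * i - f * h, c * h - b * i, b * f - c * e),
     (f * g - d * i, a * i - c * g, c * d - a * f),
     (d * h - e * g, b * g - a * h, a * e - b * d))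

def one : M3 := ((1, 0, 0), (0, 1, 0), (0, 0, 1))
def upper (x y z : ZMod 2) : M3 := ((1, x, z), (0, 1, y), (0, 0, 1))
def swapA : M3 := ((0, 1, 0), (1, 0, 0), (0, 0, 1))
def swapB : M3 := ((1, 0, 0), (0, 0, 1), (0, 1, 0))
/-- Fixing the first basis vector. -/
def InA : M3 → Prop
  | ((_, _, _), (d, _, _), (g, _, _)) => d = 0 ∧ g = 0
/-- Fixing the plane of the first two basis vectors. -/
def InB : M3 → Prop
  | ((_, _, _), (_, _, _), (g, h, _)) => g = 0 ∧ h = 0
instance : DecidablePred InA := fun ⟨(_, _, _), (_, _, _), (_, _, _)⟩ => inferInstanceAs (Decidable (_ ∧ _))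
instance : DecidablePred InB := fun ⟨(_, _, _), (_, _, _), (_, _, _)⟩ => inferInstanceAs (Decidable (_ ∧ _))

/-- The six monomial representatives. -/
def weyl : Fin 6 → M3 :=
  ![one, swapA, swapB, mul swapA swapB, mul swapB swapA, mul (mul swapA swapB) swapA]

theorem adj_spec : ∀ a : M3, det a = 1 → mul a (adj a) = one ∧ mul (adj a) a = one := by decide +kernel

theorem bruhat : ∀ a : M3, det a = 1 → ∃ k : Fin 6, ∃ x y z x' y' z' : ZMod 2,
    a = mul (mul (upper x y z) (weyl k)) (upper x' y' z') := by decide +kernel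

theorem reachA : ∀ a : M3, det a = 1 → ¬ InA a → ∃ x y z x' y' z' : ZMod 2, ∃ p q r : ZMod 2,
    swapA = mul (mul (mul (upper x y z) a) (mul (upper x' y' z') (adj a))) (upper p q r) ∨
    swapA = mul (mul (mul (upper x y z) (adj a)) (mul (upper x' y' z') a)) (upper p q r) := by decide +kernel

theorem reachB : ∀ a : M3, det a = 1 → ¬ InB a → ∃ x y z x' y' z' : ZMod 2, ∃ p q r : ZMod 2,
    swapB = mul (mul (mul (upper x y z) a) (mul (upper x' y' z') (adj a))) (upper p q r) ∨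
    swapB = mul (mul (mul (upper x y z) (adj a)) (mul (upper x' y' z') a)) (upper p q r) := by decide +kernel

theorem to_involution : ∀ a : M3, det a = 1 → a ≠ one → ∃ h : M3, det h = 1 ∧
    mul (mul (mul h a) (adj h)) a ≠ one ∧
    mul (mul (mul (mul h a) (adj h)) a) (mul (mul (mul h a) (adj h)) a) = one := by decide +kernel

theorem involution_class : ∀ a : M3, det a = 1 → a ≠ one → mul a a = one →
    ∃ h : M3, det h = 1 ∧ mul (mul h a) (adj h) = upper 0 0 1 := by decide +kernel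

/-- The entries of a matrix. -/
def ofMat (M : Matrix (Fin 3) (Fin 3) (ZMod 2)) : M3 :=
  ((M 0 0, M 0 1, M 0 2), (M 1 0, M 1 1, M 1 2), (M 2 0, M 2 1, M 2 2))

/-- The matrix with given entries. -/
def toMat : M3 → Matrix (Fin 3) (Fin 3) (ZMod 2)
  | ((a, b, c), (d, e, f), (g, h, i)) => !![a, b, c; d, e, f; g, h, i]

theorem ofMat_toMat (a : M3) : ofMat (toMat a) = a := by
  obtain ⟨⟨a, b, c⟩, ⟨d, e, f⟩, ⟨g, h, i⟩⟩ := a
  simp [ofMat, toMat]

theorem toMat_ofMat (M : Matrix (Fin 3) (Fin 3) (ZMod 2)) : toMat (ofMat M) = M := by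
  ext i j
  fin_cases i <;> fin_cases j <;> simp [ofMat, toMat]

theorem ofMat_mul (M M' : Matrix (Fin 3) (Fin 3) (ZMod 2)) : ofMat (M * M') = mul (ofMat M) (ofMat M') := by
  simp [ofMat, mul, Matrix.mul_apply, Fin.sum_univ_three]

theorem ofMat_one : ofMat 1 = one := by simp [ofMat, one]

/-- The entries of an element. -/
def enc (g : G3) : M3 := ofMat (g : Matrix (Fin 3) (Fin 3) (ZMod 2))

theorem enc_mul (g g' : G3) : enc (g * g') = mul (enc g) (enc g') := ofMat_mul _ _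

theorem enc_one : enc 1 = one := ofMat_one

theorem enc_injective : Function.Injective enc := fun g g' e => by
  refine Units.ext ?_
  rw [← toMat_ofMat (g : Matrix (Fin 3) (Fin 3) (ZMod 2)), ← toMat_ofMat (g' : Matrix (Fin 3) (Fin 3) (ZMod 2))]
  exact congrArg toMat e

theorem det_enc (g : G3) : det (enc g) = 1 := by
  have h1 : (g : Matrix (Fin 3) (Fin 3) (ZMod 2)).det = det (enc g) := by
    rw [Matrix.det_fin_three]; rfl
  have h2 : IsUnit (g : Matrix (Fin 3) (Fin 3) (ZMod 2)).det := (Matrix.isUnit_iff_isUnit_det _).1 g.isUnit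
  rw [← h1]
  generalize (g : Matrix (Fin 3) (Fin 3) (ZMod 2)).det = d at h2
  fin_cases d
  · exact absurd (show IsUnit (0 : ZMod 2) from h2) not_isUnit_zero
  · rfl

theorem enc_inv (g : G3) : enc g⁻¹ = adj (enc g) := by
  obtain ⟨h1, -⟩ := adj_spec _ (det_enc g)
  have h3 : (g : Matrix (Fin 3) (Fin 3) (ZMod 2)) * toMat (adj (enc g)) = 1 := by
    rw [← toMat_ofMat ((g : Matrix (Fin 3) (Fin 3) (ZMod 2)) * _), ofMat_mul, ofMat_toMat, show ofMat _ = enc g from rfl,
      h1, ← ofMat_one, toMat_ofMat]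
  rw [show enc g⁻¹ = ofMat ((g⁻¹ : G3) : Matrix (Fin 3) (Fin 3) (ZMod 2)) from rfl, ← ofMat_toMat (adj (enc g))]
  exact congrArg ofMat (Units.inv_eq_of_mul_eq_one_right h3)

theorem exists_enc {a : M3} (ha : det a = 1) : ∃ g : G3, enc g = a := by
  obtain ⟨h1, h2⟩ := adj_spec a ha
  have key : ∀ {p q : M3}, mul p q = one → toMat p * toMat q = 1 := fun {p q} hpq => by
    rw [← toMat_ofMat (toMat p * toMat q), ofMat_mul, ofMat_toMat, ofMat_toMat, hpq, ← ofMat_one, toMat_ofMat]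
  exact ⟨⟨toMat a, toMat (adj a), key h1, key h2⟩, ofMat_toMat a⟩

/-- Containing the upper unitriangular matrices. -/
def HasUpper (R : Subgroup G3) : Prop := ∀ g : G3, (∃ x y z, enc g = upper x y z) → g ∈ R

theorem upper_sq : ∀ a b c : ZMod 2, a * b = 0 → mul (upper a b c) (upper a b c) = one := by decide

theorem upper_det : ∀ x y z : ZMod 2, det (upper x y z) = 1 := by decide

theorem eq_top_of_swaps {R : Subgroup G3} (hU : HasUpper R) {sA sB : G3} (eA : enc sA = swapA)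
    (eB : enc sB = swapB) (hA : sA ∈ R) (hB : sB ∈ R) : R = ⊤ := by
  refine (Subgroup.eq_top_iff' _).2 fun g => ?_
  obtain ⟨k, x, y, z, x', y', z', e⟩ := bruhat _ (det_enc g)
  obtain ⟨u, hu⟩ := exists_enc (upper_det x y z)
  obtain ⟨u', hu'⟩ := exists_enc (upper_det x' y' z')
  obtain ⟨w, hw, hwk⟩ : ∃ w ∈ R, enc w = weyl k := by
    fin_cases k
    · exact ⟨1, one_mem _, enc_one⟩
    · exact ⟨sA, hA, eA⟩
    · exact ⟨sB, hB, eB⟩
    · exact ⟨sA * sB, mul_mem hA hB, by rw [enc_mul, eA, eB]; rfl⟩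
    · exact ⟨sB * sA, mul_mem hB hA, by rw [enc_mul, eA, eB]; rfl⟩
    · exact ⟨sA * sB * sA, mul_mem (mul_mem hA hB) hA, by rw [enc_mul, enc_mul, eA, eB]; rfl⟩
  rw [enc_injective (show enc g = enc (u * w * u') by rw [enc_mul, enc_mul, hu, hu', hwk, ← e])]
  exact mul_mem (mul_mem (hU u ⟨x, y, z, hu⟩) hw) (hU u' ⟨x', y', z', hu'⟩)

/-- The sign of the permutation induced by an invertible two by two matrix. -/
def sgn : ZMod 2 × ZMod 2 × ZMod 2 × ZMod 2 → ℤˣ
  | (a, b, c, d) => if a = d ∧ ¬ (b = 0 ∧ c = 0) ∧ ¬ (a + b * c = 0 ∧ a = 0) then -1 else 1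

/-- Multiplication of two by two matrices. -/
def mul₂ : ZMod 2 × ZMod 2 × ZMod 2 × ZMod 2 → ZMod 2 × ZMod 2 × ZMod 2 × ZMod 2 → ZMod 2 × ZMod 2 × ZMod 2 × ZMod 2
  | (a, b, c, d), (a', b', c', d') => (a * a' + b * c', a * b' + b * d', c * a' + d * c', c * b' + d * d')

theorem sgn_mul : ∀ p q : ZMod 2 × ZMod 2 × ZMod 2 × ZMod 2, p.1 * p.2.2.2 - p.2.1 * p.2.2.1 = 1 →
    q.1 * q.2.2.2 - q.2.1 * q.2.2.1 = 1 → sgn (mul₂ p q) = sgn p * sgn q := by decide +kernel

def blockA : M3 → ZMod 2 × ZMod 2 × ZMod 2 × ZMod 2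
  | ((_, _, _), (_, e, f), (_, h, i)) => (e, f, h, i)

def blockB : M3 → ZMod 2 × ZMod 2 × ZMod 2 × ZMod 2
  | ((a, b, _), (d, e, _), (_, _, _)) => (a, b, d, e)

theorem blockA_mul : ∀ a b : M3, InA a → InA b → blockA (mul a b) = mul₂ (blockA a) (blockA b) := by
  rintro ⟨⟨a, b, c⟩, ⟨d, e, f⟩, ⟨g, h, i⟩⟩ ⟨⟨a', b', c'⟩, ⟨d', e', f'⟩, ⟨g', h', i'⟩⟩ ⟨rfl, rfl⟩ ⟨rfl, rfl⟩
  simp [blockA, mul, mul₂]

theorem blockB_mul : ∀ a b : M3, InB a → InB b → blockB (mul a b) = mul₂ (blockB a) (blockB b) := by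
  rintro ⟨⟨a, b, c⟩, ⟨d, e, f⟩, ⟨g, h, i⟩⟩ ⟨⟨a', b', c'⟩, ⟨d', e', f'⟩, ⟨g', h', i'⟩⟩ ⟨rfl, rfl⟩ ⟨rfl, rfl⟩
  simp [blockB, mul, mul₂]

theorem blockA_det : ∀ a : M3, det a = 1 → InA a →
    (blockA a).1 * (blockA a).2.2.2 - (blockA a).2.1 * (blockA a).2.2.1 = 1 := by decide +kernel

theorem blockB_det : ∀ a : M3, det a = 1 → InB a →
    (blockB a).1 * (blockB a).2.2.2 - (blockB a).2.1 * (blockB a).2.2.1 = 1 := by decide +kernel

/-- A subgroup with the upper unitriangular matrices and no character of order two is everything. -/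
theorem eq_top_of_no_char {R : Subgroup G3} (hU : HasUpper R) (hno : ∀ f : R →* ℤˣ, f = 1) : R = ⊤ := by
  have hnotA : ∃ g ∈ R, ¬ InA (enc g) := by
    by_contra hall
    push Not at hall
    let f : R →* ℤˣ := MonoidHom.mk' (fun g => sgn (blockA (enc (g : G3)))) fun g g' => by
      show sgn (blockA (enc ((g : G3) * g'))) = _
      rw [enc_mul, blockA_mul _ _ (hall _ g.2) (hall _ g'.2),
        sgn_mul _ _ (blockA_det _ (det_enc _) (hall _ g.2)) (blockA_det _ (det_enc _) (hall _ g'.2))]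
    obtain ⟨u, hu⟩ := exists_enc (upper_det 0 1 0)
    have h1 := DFunLike.congr_fun (hno f) ⟨u, hU u ⟨0, 1, 0, hu⟩⟩
    rw [MonoidHom.one_apply] at h1
    change sgn (blockA (enc u)) = 1 at h1
    rw [hu] at h1
    revert h1
    decide
  have hnotB : ∃ g ∈ R, ¬ InB (enc g) := by
    by_contra hall
    push Not at hall
    let f : R →* ℤˣ := MonoidHom.mk' (fun g => sgn (blockB (enc (g : G3)))) fun g g' => by
      show sgn (blockB (enc ((g : G3) * g'))) = _
      rw [enc_mul, blockB_mul _ _ (hall _ g.2) (hall _ g'.2),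
        sgn_mul _ _ (blockB_det _ (det_enc _) (hall _ g.2)) (blockB_det _ (det_enc _) (hall _ g'.2))]
    obtain ⟨u, hu⟩ := exists_enc (upper_det 1 0 0)
    have h1 := DFunLike.congr_fun (hno f) ⟨u, hU u ⟨1, 0, 0, hu⟩⟩
    rw [MonoidHom.one_apply] at h1
    change sgn (blockB (enc u)) = 1 at h1
    rw [hu] at h1
    revert h1
    decide
  have key : ∀ {s : M3} {g : G3}, g ∈ R → (∃ x y z x' y' z' : ZMod 2, ∃ p q r : ZMod 2,
      s = mul (mul (mul (upper x y z) (enc g)) (mul (upper x' y' z') (adj (enc g)))) (upper p q r) ∨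
      s = mul (mul (mul (upper x y z) (adj (enc g))) (mul (upper x' y' z') (enc g))) (upper p q r)) →
      ∃ t ∈ R, enc t = s := by
    rintro s g hg ⟨x, y, z, x', y', z', p, q, r, e⟩
    obtain ⟨u, hu⟩ := exists_enc (upper_det x y z)
    obtain ⟨u', hu'⟩ := exists_enc (upper_det x' y' z')
    obtain ⟨v, hv⟩ := exists_enc (upper_det p q r)
    have m1 := hU u ⟨x, y, z, hu⟩
    have m2 := hU u' ⟨x', y', z', hu'⟩
    have m3 := hU v ⟨p, q, r, hv⟩
    rcases e with e | e
    · exact ⟨u * g * (u' * g⁻¹) * v, mul_mem (mul_mem (mul_mem m1 hg) (mul_mem m2 (inv_mem hg))) m3, by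
        simp only [enc_mul, enc_inv, hu, hu', hv, e]⟩
    · exact ⟨u * g⁻¹ * (u' * g) * v, mul_mem (mul_mem (mul_mem m1 (inv_mem hg)) (mul_mem m2 hg)) m3, by
        simp only [enc_mul, enc_inv, hu, hu', hv, e]⟩
  obtain ⟨g, hg, hgA⟩ := hnotA
  obtain ⟨g', hg', hgB⟩ := hnotB
  obtain ⟨sA, hA, eA⟩ := key hg (reachA _ (det_enc g) hgA)
  obtain ⟨sB, hB, eB⟩ := key hg' (reachB _ (det_enc g') hgB)
  exact eq_top_of_swaps hU eA eB hA hB

/-- There is no proper nontrivial normal subgroup. -/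
theorem normal_eq_top (K : Subgroup G3) [hK : K.Normal] (hne : K ≠ ⊥) : K = ⊤ := by
  obtain ⟨g, hg, hg1⟩ : ∃ g ∈ K, g ≠ 1 := K.bot_or_exists_ne_one.resolve_left hne
  obtain ⟨h, hh, h1, h2⟩ := to_involution _ (det_enc g) fun e => hg1 (enc_injective (e.trans enc_one.symm))
  obtain ⟨k, hk⟩ := exists_enc hh
  have ht : k * g * k⁻¹ * g ∈ K := mul_mem (hK.conj_mem _ hg k) hg
  have hinv : ∀ a : M3, det a = 1 → a ≠ one → mul a a = one → ∀ t : G3, enc t = a → t ∈ K := by
    have hx : ∀ a : M3, det a = 1 → a ≠ one → mul a a = one → ∀ t : G3, enc t = a →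
        ∃ c : G3, enc (c * t * c⁻¹) = upper 0 0 1 := by
      intro a ha ha1 ha2 t ht'
      obtain ⟨c, hc, hce⟩ := involution_class a ha ha1 ha2
      obtain ⟨c', hc'⟩ := exists_enc hc
      exact ⟨c', by rw [enc_mul, enc_mul, enc_inv, hc', ht', hce]⟩
    obtain ⟨c, hc⟩ := hx (enc (k * g * k⁻¹ * g)) (det_enc _)
      (by rw [enc_mul, enc_mul, enc_mul, enc_inv, hk]; exact h1)
      (by rw [enc_mul, enc_mul, enc_mul, enc_inv, hk]; exact h2) _ rfl
    intro a ha ha1 ha2 t ht'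
    obtain ⟨c', hc'⟩ := hx a ha ha1 ha2 t ht'
    have e := enc_injective (hc'.trans hc.symm)
    rw [show t = c'⁻¹ * (c * (k * g * k⁻¹ * g) * c⁻¹) * c'⁻¹⁻¹ by rw [← e]; group]
    exact hK.conj_mem _ (hK.conj_mem _ ht c) _
  have hU : HasUpper K := by
    rintro u ⟨x, y, z, hu⟩
    obtain ⟨u₁, hu₁⟩ := exists_enc (upper_det x 0 0)
    obtain ⟨u₂, hu₂⟩ := exists_enc (upper_det 0 y 0)
    obtain ⟨u₃, hu₃⟩ := exists_enc (upper_det 0 0 (z - x * y))
    have hone : ∀ {t : G3} {a b c : ZMod 2}, enc t = upper a b c → a * b = 0 → t ∈ K := by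
      intro t a b c ht' hab
      by_cases h1 : upper a b c = one
      · rw [enc_injective (ht'.trans (h1.trans enc_one.symm))]; exact one_mem _
      · exact hinv _ (upper_det a b c) h1 (upper_sq a b c hab) t ht'
    rw [enc_injective (show enc u = enc (u₁ * u₂ * u₃) by
      rw [enc_mul, enc_mul, hu₁, hu₂, hu₃, hu]
      clear hu hu₁ hu₂ hu₃
      revert x y z
      decide)]
    exact mul_mem (mul_mem (hone hu₁ (by simp)) (hone hu₂ (by simp))) (hone hu₃ (by simp))
  obtain ⟨sA, eA⟩ := exists_enc (a := swapA) (by decide)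
  obtain ⟨sB, eB⟩ := exists_enc (a := swapB) (by decide)
  exact eq_top_of_swaps hU eA eB (hinv swapA (by decide) (by decide) (by decide) sA eA)
    (hinv swapB (by decide) (by decide) (by decide) sB eB)

/-- Two commuting involutions. -/
theorem exists_four : ∃ a b : G3, a ≠ 1 ∧ b ≠ 1 ∧ a ≠ b ∧ a * a = 1 ∧ b * b = 1 ∧ a * b = b * a := by
  obtain ⟨a, ha⟩ := exists_enc (upper_det 1 0 0)
  obtain ⟨b, hb⟩ := exists_enc (upper_det 0 0 1)
  refine ⟨a, b, fun e => ?_, fun e => ?_, fun e => ?_, enc_injective ?_, enc_injective ?_, enc_injective ?_⟩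
  · rw [e, enc_one] at ha; revert ha; decide
  · rw [e, enc_one] at hb; revert hb; decide
  · rw [e, hb] at ha; revert ha; decide
  all_goals simp only [enc_mul, enc_one, ha, hb]
  all_goals decide

end Cfsg.Agent.Fus.RudTransfer.Gl
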