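import Cfsg.Agent.Lib.Fus.RudTransfer.Control
import Cfsg.Agent.Lib.Fus.RudTransfer.Gl3

/-!
# The action on the derived group of `W`

The normalizer of the derived group maps to `GL(3, 2)`, and so already does the normalizer of `W` when the group has
no subgroup of index two.
-/

set_option autoImplicit false
set_option linter.unusedSectionVars false
set_option linter.style.haveILetI false

open scoped commutatorElement

namespace Cfsg.Agent.Fus.RudTransfer

open Subgroup RudType

variable {G : Type*} [Group G] [Finite G] {T : Sylow 2 G} {W : Subgroup ↥(T : Subgroup G)}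

/-- The normalizer of the derived group of `W`. -/
abbrev mG (T : Sylow 2 G) (W : Subgroup ↥(T : Subgroup G)) : Subgroup G := normalizer (dG T W : Set G)

/-- A scalar power. -/
def pw {H : Type*} [Group H] (a : ZMod 2) (g : H) : H := if a = 0 then 1 else g

theorem pw_add {H : Type*} [Group H] (a b : ZMod 2) {g : H} (hg : g * g = 1) : pw (a + b) g = pw a g * pw b g := by
  have key : ∀ t : ZMod 2, t = 0 ∨ t = 1 := by decide
  rcases key a with rfl | rfl <;> rcases key b with rfl | rfl <;>
    simp [pw, hg, show (1 : ZMod 2) + 1 = 0 from rfl]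

section

variable (h : RudType.Hyp W)
include h

theorem dG_eq_commutator : dG T W = ⁅wG T W, wG T W⁆ := by
  rw [← map_commutator, ← Subgroup.map_subtype_commutator, h.map_commutator_eq, ← h.phi_eq]

theorem nG_le_mG : nG T W ≤ mG T W := fun n hn => by
  have h1 : (wG T W).map (MulAut.conj n).toMonoidHom = wG T W := by
    refine Subgroup.eq_of_le_of_card_ge ?_ (card_map_of_injective (MulAut.conj n).injective).ge
    rintro _ ⟨x, hx, rfl⟩
    exact (mem_normalizer_iff.1 hn x).1 hx
  have h2 : (dG T W).map (MulAut.conj n).toMonoidHom = dG T W := by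
    rw [dG_eq_commutator h, map_commutator, h1]
  rw [mem_normalizer_iff]
  intro x
  constructor
  · intro hx
    rw [← h2]
    exact ⟨x, hx, rfl⟩
  · intro hx
    rw [← h2] at hx
    obtain ⟨y, hy, e⟩ := hx
    rwa [← (MulAut.conj n).injective e]

theorem T_le_mG : (T : Subgroup G) ≤ mG T W := (T_le_nG h).trans (nG_le_mG h)

theorem cent_le_mG : centralizer (dG T W : Set G) ≤ mG T W := centralizer_le_normalizer _

theorem T_inf_cent {x : G} (hx : x ∈ (T : Subgroup G)) : x ∈ centralizer (dG T W : Set G) ↔ x ∈ wG T W := by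
  constructor
  · intro hc
    refine ⟨⟨x, hx⟩, ?_, rfl⟩
    show (⟨x, hx⟩ : ↥(T : Subgroup G)) ∈ W
    rw [h.cent, mem_centralizer_iff]
    intro z hz
    exact Subtype.ext (mem_centralizer_iff.1 hc z ⟨z, h.phi_eq.symm ▸ hz, rfl⟩)
  · intro hw
    exact mem_centralizer_iff.2 fun d hd => dG_cent h hd hw

/-- Coordinates for the derived group and the action in these coordinates. -/
theorem exists_action : ∃ ρ : ↥(mG T W) →* Gl.G3,
    (∀ m : ↥(mG T W), ρ m = 1 ↔ (m : G) ∈ centralizer (dG T W : Set G)) ∧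
      Gl.HasUpper (((T : Subgroup G).subgroupOf (mG T W)).map ρ) := by
  classical
  obtain ⟨g2, g3, a, b, c, d⟩ := h.exists_gens
  obtain ⟨z, -, hz, hz0⟩ := exists_step h.pgroup (N := ⊤) 0 (h.ne_top (by omega))
  have hz3 : z ∈ ucs ↥(T : Subgroup G) 3 := Subgroup.upperCentralSeries_mono _ (by omega : 1 ≤ 3) hz
  have ha3 : g2 ∈ ucs ↥(T : Subgroup G) 3 := Subgroup.upperCentralSeries_mono _ (by omega : 2 ≤ 3) a
  have hmem : ∀ {x : ↥(T : Subgroup G)}, x ∈ ucs ↥(T : Subgroup G) 3 → (x : G) ∈ dG T W :=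
    fun hx => ⟨_, h.phi_eq.symm ▸ hx, rfl⟩
  let zD : ↥(dG T W) := ⟨z, hmem hz3⟩
  let aD : ↥(dG T W) := ⟨g2, hmem ha3⟩
  let cD : ↥(dG T W) := ⟨g3, hmem c⟩
  have hsq : ∀ x : ↥(dG T W), x * x = 1 := fun x => Subtype.ext (dG_sq h x.2)
  have hcomm : ∀ x y : ↥(dG T W), x * y = y * x := fun x y => Subtype.ext (dG_cent h x.2 (dG_le h y.2))
  let β : (Fin 3 → ZMod 2) → ↥(dG T W) := fun x => pw (x 0) zD * pw (x 1) aD * pw (x 2) cD
  have hβ : ∀ x y, β (x + y) = β x * β y := fun x y => by
    show pw (x 0 + y 0) zD * pw (x 1 + y 1) aD * pw (x 2 + y 2) cD = _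
    rw [pw_add _ _ (hsq zD), pw_add _ _ (hsq aD), pw_add _ _ (hsq cD)]
    letI : CommGroup ↥(dG T W) := { (inferInstance : Group ↥(dG T W)) with mul_comm := hcomm }
    show _ = pw (x 0) zD * pw (x 1) aD * pw (x 2) cD * (pw (y 0) zD * pw (y 1) aD * pw (y 2) cD)
    ac_rfl
  have hker : ∀ x, β x = 1 → x = 0 := by
    intro x hx
    have key : pw (x 0) z * pw (x 1) g2 * pw (x 2) g3 = (1 : ↥(T : Subgroup G)) := by
      refine Subtype.ext ?_
      have := congrArg (fun y : ↥(dG T W) => (y : G)) hx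
      simp only [β, zD, aD, cD, pw] at this ⊢
      split_ifs at this ⊢ <;> simpa using this
    have hz1 : ∀ t : ZMod 2, pw t z ∈ ucs ↥(T : Subgroup G) 1 := fun t => by
      unfold pw; split_ifs
      exacts [one_mem _, hz]
    have ha2 : ∀ t : ZMod 2, pw t g2 ∈ ucs ↥(T : Subgroup G) 2 := fun t => by
      unfold pw; split_ifs
      exacts [one_mem _, a]
    have hz2 : ∀ t : ZMod 2, pw t z ∈ ucs ↥(T : Subgroup G) 2 := fun t =>
      Subgroup.upperCentralSeries_mono _ (by omega : 1 ≤ 2) (hz1 t)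
    have h2 : x 2 = 0 := by
      by_contra hne
      refine d ?_
      rw [show pw (x 2) g3 = g3 from if_neg hne] at key
      rw [eq_inv_of_mul_eq_one_right key]
      exact inv_mem (mul_mem (hz2 _) (ha2 _))
    rw [show pw (x 2) g3 = 1 from if_pos h2, mul_one] at key
    have h1 : x 1 = 0 := by
      by_contra hne
      refine b ?_
      rw [show pw (x 1) g2 = g2 from if_neg hne] at key
      rw [eq_inv_of_mul_eq_one_right key]
      exact inv_mem (hz1 _)
    rw [show pw (x 1) g2 = 1 from if_pos h1, mul_one] at key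
    have h0 : x 0 = 0 := by
      by_contra hne
      rw [show pw (x 0) z = z from if_neg hne] at key
      exact hz0 (key ▸ one_mem _)
    funext i
    fin_cases i <;> assumption
  let β' : (Fin 3 → ZMod 2) →+ Additive ↥(dG T W) :=
    AddMonoidHom.mk' (fun x => Additive.ofMul (β x)) fun x y => congrArg Additive.ofMul (hβ x y)
  have hbij : Function.Bijective β' := (Nat.bijective_iff_injective_and_card _).2
    ⟨(injective_iff_map_eq_zero β').2 fun x hx => hker x hx, by
      rw [Nat.card_congr (Additive.ofMul (α := ↥(dG T W))).symm, card_dG h, Nat.card_eq_fintype_card]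
      rfl⟩
  let e := AddEquiv.ofBijective β' hbij
  let act : ↥(mG T W) →* MulAut ↥(dG T W) := (dG T W).normalizerMonoidHom
  let L : ↥(mG T W) → ((Fin 3 → ZMod 2) →+ (Fin 3 → ZMod 2)) := fun m =>
    (e.symm : Additive ↥(dG T W) →+ (Fin 3 → ZMod 2)).comp
      ((MonoidHom.toAdditive (act m).toMonoidHom).comp e.toAddMonoidHom)
  let lin : ↥(mG T W) → ((Fin 3 → ZMod 2) →ₗ[ZMod 2] (Fin 3 → ZMod 2)) := fun m => (L m).toZModLinearMap 2
  have hlin : ∀ m x, β (lin m x) = act m (β x) := fun m x => congrArg Additive.toMul (e.apply_symm_apply _)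
  have hβinj : Function.Injective β := fun x y exy => hbij.1 (congrArg Additive.ofMul exy)
  let f : ↥(mG T W) →* Matrix (Fin 3) (Fin 3) (ZMod 2) :=
    { toFun := fun m => LinearMap.toMatrix' (lin m)
      map_one' := by
        rw [show lin 1 = LinearMap.id from LinearMap.ext fun x => hβinj (by rw [hlin, map_one]; rfl),
          LinearMap.toMatrix'_id]
      map_mul' := fun m m' => by
        rw [show lin (m * m') = (lin m).comp (lin m') from LinearMap.ext fun x => hβinj (by
          rw [LinearMap.comp_apply, hlin, hlin, hlin]; exact DFunLike.congr_fun (map_mul act m m') _), LinearMap.toMatrix'_comp] }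
  refine ⟨f.toHomUnits, fun m => ?_, ?_⟩
  · rw [mem_centralizer_iff]
    constructor
    · intro hm x hx
      have h1 : lin m = LinearMap.id := LinearMap.toMatrix'.injective (by
        rw [LinearMap.toMatrix'_id]; exact congrArg Units.val hm)
      obtain ⟨y, hy⟩ := hbij.2 (Additive.ofMul ⟨x, hx⟩)
      have hy' : β y = ⟨x, hx⟩ := congrArg Additive.toMul hy
      have h2 := hlin m y
      rw [h1, LinearMap.id_apply, hy'] at h2
      have h3 : x = (m : G) * x * (m : G)⁻¹ := congrArg Subtype.val h2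
      exact eq_mul_inv_iff_mul_eq.1 h3
    · intro hm
      refine Units.ext ?_
      show LinearMap.toMatrix' (lin m) = 1
      rw [show lin m = LinearMap.id from LinearMap.ext fun y => hβinj (by
        rw [hlin]
        refine Subtype.ext ?_
        show (m : G) * (β y : G) * (m : G)⁻¹ = (β y : G)
        rw [← hm _ (β y).2, mul_inv_cancel_right]), LinearMap.toMatrix'_id]
  · rintro g ⟨x, y, w, hg⟩
    have hyz : pw w z * pw y g2 ∈ ucs ↥(T : Subgroup G) 2 := mul_mem
      (by unfold pw; split_ifs; exacts [one_mem _, Subgroup.upperCentralSeries_mono _ (by omega : 1 ≤ 2) hz])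
      (by unfold pw; split_ifs; exacts [one_mem _, a])
    obtain ⟨t, ht2, ht3⟩ := h.exists_act a b c d (x := pw x z)
      (by unfold pw; split_ifs; exacts [one_mem _, hz]) hyz
    refine ⟨⟨(t : G), T_le_mG h t.2⟩, mem_subgroupOf.2 t.2, Gl.enc_injective ?_⟩
    rw [hg]
    have hconj : ∀ v : ↥(dG T W), ∀ v' : ↥(T : Subgroup G), (v : G) = v' →
        ((act ⟨(t : G), T_le_mG h t.2⟩ v : ↥(dG T W)) : G) = ((t * v' * t⁻¹ : ↥(T : Subgroup G)) : G) :=
      fun v v' e => by
        show (t : G) * v * (t : G)⁻¹ = _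
        rw [e]; rfl
    have hzt : t * z * t⁻¹ = z := by
      have := h.comm_one (i := 0) hz t
      simp only [ucs, Subgroup.upperCentralSeries_zero, mem_bot] at this
      exact mul_inv_eq_one.1 this
    have c0 : lin ⟨(t : G), T_le_mG h t.2⟩ (Pi.single 0 1) = ![1, 0, 0] := hβinj (by
      rw [hlin]
      refine Subtype.ext ?_
      rw [hconj _ z (by simp [β, pw, zD])]
      rw [hzt]
      simp [β, pw, zD])
    have c1 : lin ⟨(t : G), T_le_mG h t.2⟩ (Pi.single 1 1) = ![x, 1, 0] := hβinj (by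
      rw [hlin]
      refine Subtype.ext ?_
      rw [hconj _ g2 (by simp [β, pw, aD])]
      rw [ht2]
      by_cases hx : x = 0 <;> simp [β, pw, zD, aD, hx])
    have c2 : lin ⟨(t : G), T_le_mG h t.2⟩ (Pi.single 2 1) = ![w, y, 1] := hβinj (by
      rw [hlin]
      refine Subtype.ext ?_
      rw [hconj _ g3 (by simp [β, pw, cD])]
      rw [ht3]
      by_cases hw : w = 0 <;> by_cases hy : y = 0 <;> simp [β, pw, zD, aD, cD, hw, hy])
    have hm : ∀ i j, ((f.toHomUnits ⟨(t : G), T_le_mG h t.2⟩ : Gl.G3) : Matrix (Fin 3) (Fin 3) (ZMod 2)) i j =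
        lin ⟨(t : G), T_le_mG h t.2⟩ (Pi.single j 1) i := fun i j => by
      show LinearMap.toMatrix' (lin _) i j = _
      rw [LinearMap.toMatrix'_apply]
    simp only [Gl.enc, Gl.ofMat, Gl.upper, hm, c0, c1, c2]
    simp

end

variable (h : RudType.Hyp W) (h2 : ∀ H : Subgroup G, H.index ≠ 2)
include h h2

/-- Already the normalizer of `W` induces everything. -/
theorem surjective_on_nG {ρ : ↥(mG T W) →* Gl.G3}
    (hρ : ∀ m : ↥(mG T W), ρ m = 1 ↔ (m : G) ∈ centralizer (dG T W : Set G))
    (hU : Gl.HasUpper (((T : Subgroup G).subgroupOf (mG T W)).map ρ)) :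
    Function.Surjective (ρ.comp (Subgroup.inclusion (nG_le_mG h))) := by
  set σ := ρ.comp (Subgroup.inclusion (nG_le_mG h))
  rw [← MonoidHom.range_eq_top]
  refine Gl.eq_top_of_no_char (fun g hg => ?_) fun f => ?_
  · obtain ⟨m, hm, e⟩ := hU g hg
    exact ⟨⟨(m : G), T_le_nG h (mem_subgroupOf.1 hm)⟩, by rw [← e]; rfl⟩
  · have hχ : (f.comp σ.rangeRestrict) = 1 := by
      refine chi_eq_one h (fun x hx hw => ?_) h2
      have h1 : σ ⟨x, hx⟩ = 1 :=
        (hρ ⟨x, nG_le_mG h hx⟩).2 (mem_centralizer_iff.2 fun d hd => dG_cent h hd hw)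
      rw [MonoidHom.comp_apply, show σ.rangeRestrict ⟨x, hx⟩ = 1 from Subtype.ext h1, map_one]
    refine MonoidHom.ext fun r => ?_
    obtain ⟨n, rfl⟩ := σ.rangeRestrict_surjective r
    exact DFunLike.congr_fun hχ n

end Cfsg.Agent.Fus.RudTransfer
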