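import Cfsg.Agent.Lib.Grp.Frattini

/-!
# Transfer evaluated orbit by orbit

For a character of a subgroup with values of order two, the factors of the transfer over an orbit of a two-group are
computed by halving the orbit.
-/

set_option autoImplicit false
set_option linter.unusedSectionVars false
set_option linter.style.haveILetI false

namespace Cfsg.Agent.Fus.RudTransfer

open Subgroup MulAction
open scoped Classical

variable {G : Type*} [Group G] [Finite G] {N : Subgroup G} (χ : ↥N →* ℤˣ)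

theorem out_mem (x : G) (q : G ⧸ N) : (x • q).out⁻¹ * x * q.out ∈ N := by
  rw [mul_assoc]
  refine QuotientGroup.eq.1 ?_
  rw [QuotientGroup.out_eq', ← smul_eq_mul, ← MulAction.Quotient.smul_mk, QuotientGroup.out_eq']

/-- The factor of the transfer at a coset. -/
noncomputable def kap (x : G) (q : G ⧸ N) : ℤˣ := χ ⟨(x • q).out⁻¹ * x * q.out, out_mem x q⟩

/-- The product of the factors over a set of cosets. -/
noncomputable def tau (B : Finset (G ⧸ N)) (x : G) : ℤˣ := ∏ q ∈ B, kap χ x q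

/-- The orbit of a subgroup, as a finite set. -/
noncomputable def orb (V : Subgroup G) (q : G ⧸ N) : Finset (G ⧸ N) :=
  (Set.toFinite (MulAction.orbit ↥V q)).toFinset

theorem mem_orb {V : Subgroup G} {q p : G ⧸ N} : p ∈ orb V q ↔ ∃ v ∈ V, v • q = p := by
  rw [orb, Set.Finite.mem_toFinset]
  exact ⟨fun ⟨v, hv⟩ => ⟨v, v.2, hv⟩, fun ⟨v, hv, e⟩ => ⟨⟨v, hv⟩, e⟩⟩

theorem self_mem_orb (V : Subgroup G) (q : G ⧸ N) : q ∈ orb V q := mem_orb.2 ⟨1, one_mem _, one_smul _ _⟩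

theorem smul_orb {V : Subgroup G} (q : G ⧸ N) {x : G} (hx : x ∈ V) :
    (orb V q).image (x • ·) = orb V q := by
  ext p
  simp only [Finset.mem_image, mem_orb]
  constructor
  · rintro ⟨p', ⟨v, hv, rfl⟩, rfl⟩
    exact ⟨x * v, mul_mem hx hv, mul_smul _ _ _⟩
  · rintro ⟨v, hv, rfl⟩
    exact ⟨_, ⟨x⁻¹ * v, mul_mem (inv_mem hx) hv, rfl⟩, by rw [smul_smul, mul_inv_cancel_left]⟩

theorem orb_eq_singleton {V : Subgroup G} {q : G ⧸ N} (h : ∀ v ∈ V, v • q = q) : orb V q = {q} := by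
  ext p
  rw [mem_orb, Finset.mem_singleton]
  exact ⟨fun ⟨v, hv, e⟩ => by rw [← e, h v hv], fun e => ⟨1, one_mem _, by rw [one_smul, e]⟩⟩

theorem kap_mul (x y : G) (q : G ⧸ N) : kap χ (x * y) q = kap χ x (y • q) * kap χ y q := by
  rw [kap, kap, kap, ← map_mul]
  congr 1
  refine Subtype.ext ?_
  show ((x * y) • q).out⁻¹ * (x * y) * q.out =
    (x • y • q).out⁻¹ * x * (y • q).out * ((y • q).out⁻¹ * y * q.out)
  rw [mul_smul]
  group

theorem tau_mul (B : Finset (G ⧸ N)) (x y : G) :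
    tau χ B (x * y) = tau χ (B.image (y • ·)) x * tau χ B y := by
  rw [tau, tau, tau, Finset.prod_image fun p _ p' _ e => smul_left_cancel y e, ← Finset.prod_mul_distrib]
  exact Finset.prod_congr rfl fun q _ => kap_mul χ x y q

theorem tau_one (B : Finset (G ⧸ N)) : tau χ B 1 = 1 := by
  refine Finset.prod_eq_one fun q _ => ?_
  rw [kap, show (⟨((1 : G) • q).out⁻¹ * 1 * q.out, out_mem 1 q⟩ : ↥N) = 1 from Subtype.ext (by
    show ((1 : G) • q).out⁻¹ * 1 * q.out = 1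
    rw [one_smul, mul_one, inv_mul_cancel]), map_one]

theorem tau_singleton {x : G} {q : G ⧸ N} : tau χ {q} x = kap χ x q := Finset.prod_singleton ..

/-- On an orbit the product is multiplicative. -/
theorem tau_orb_mul {V : Subgroup G} (q : G ⧸ N) (x : G) {y : G} (hy : y ∈ V) :
    tau χ (orb V q) (x * y) = tau χ (orb V q) x * tau χ (orb V q) y := by
  rw [tau_mul, smul_orb q hy]

/-- Conjugation moves the product to the translated set. -/
theorem tau_conj (w : G) {B : Finset (G ⧸ N)} {x : G} (hx : B.image (x • ·) = B) :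
    tau χ (B.image (w • ·)) (w * x * w⁻¹) = tau χ B x := by
  have h1 := tau_mul χ B (w * x * w⁻¹) w
  rw [inv_mul_cancel_right, tau_mul, hx, mul_comm] at h1
  exact (mul_right_cancel h1).symm

/-- A subgroup of index two of `V` containing the stabiliser. -/
structure Split (V V₂ : Subgroup G) (q : G ⧸ N) : Prop where
  le : V₂ ≤ V
  stab : ∀ v ∈ V, v • q = q → v ∈ V₂
  normal : ∀ v ∈ V, ∀ x ∈ V₂, v * x * v⁻¹ ∈ V₂
  two : ∀ v ∈ V, ∀ w ∈ V, v ∉ V₂ → w ∉ V₂ → w⁻¹ * v ∈ V₂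

theorem exists_split {V K : Subgroup G} (hV : IsPGroup 2 ↥V) (hK : K ≤ V) (hne : K ≠ V) (q : G ⧸ N)
    (hq : ∀ v ∈ V, v • q = q → v ∈ K) : ∃ V₂, K ≤ V₂ ∧ V₂ ≠ V ∧ Split V V₂ q := by
  haveI : Fact (Nat.Prime 2) := ⟨Nat.prime_two⟩
  obtain ⟨M, hM, hKM⟩ := (eq_top_or_exists_le_coatom (K.subgroupOf V)).resolve_left fun e =>
    hne (le_antisymm hK (subgroupOf_eq_top.1 e))
  obtain ⟨hn, hi⟩ := Grp.coatom_index_eq_of_pGroup hV hM
  have hmem : ∀ {v : G} (hv : v ∈ V), v ∈ M.map V.subtype ↔ (⟨v, hv⟩ : ↥V) ∈ M := fun {v} hv =>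
    ⟨fun ⟨m, hm, e⟩ => by rwa [show (⟨v, hv⟩ : ↥V) = m from Subtype.ext e.symm], fun h => ⟨_, h, rfl⟩⟩
  have hle : K ≤ M.map V.subtype := fun k hk => (hmem (hK hk)).2 (hKM (mem_subgroupOf.2 hk))
  refine ⟨M.map V.subtype, hle, fun e => hM.1 ((eq_top_iff' M).2 fun x => (hmem x.2).1 (e.symm ▸ x.2)),
    map_subtype_le _, fun v hv e => hle (hq v hv e), fun v hv x hx => ?_, fun v hv w hw h1 h2 => ?_⟩
  · have hxV := map_subtype_le _ hx
    exact (hmem (mul_mem (mul_mem hv hxV) (inv_mem hv))).2 (hn.conj_mem _ ((hmem hxV).1 hx) ⟨v, hv⟩)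
  · refine (hmem (mul_mem (inv_mem hw) hv)).2 ?_
    have := (mul_mem_iff_of_index_two hi (a := (⟨w, hw⟩ : ↥V)⁻¹) (b := ⟨v, hv⟩)).2
      (iff_of_false (fun h => h2 ((hmem hw).2 (inv_mem_iff.1 h))) fun h => h1 ((hmem hv).2 h))
    exact this

namespace Split

variable {χ} {V V₂ : Subgroup G} {q : G ⧸ N} (h : Split V V₂ q) {w : G} (hw : w ∈ V) (hw₂ : w ∉ V₂)
include h hw hw₂

theorem sq_mem : w * w ∈ V₂ := by
  have := h.two w hw w⁻¹ (inv_mem hw) hw₂ fun hm => hw₂ (inv_mem_iff.1 hm)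
  rwa [inv_inv] at this

theorem conj_mem {x : G} (hx : x ∈ V₂) : w⁻¹ * x * w ∈ V₂ := by
  simpa using h.normal w⁻¹ (inv_mem hw) x hx

theorem orb_eq : orb V q = orb V₂ q ∪ (orb V₂ q).image (w • ·) ∧ Disjoint (orb V₂ q) ((orb V₂ q).image (w • ·)) := by
  refine ⟨?_, ?_⟩
  · ext p
    simp only [Finset.mem_union, Finset.mem_image, mem_orb]
    constructor
    · rintro ⟨v, hv, rfl⟩
      by_cases hv2 : v ∈ V₂
      · exact Or.inl ⟨v, hv2, rfl⟩
      · exact Or.inr ⟨_, ⟨w⁻¹ * v, h.two v hv w hw hv2 hw₂, rfl⟩, by rw [smul_smul, mul_inv_cancel_left]⟩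
    · rintro (⟨v, hv, rfl⟩ | ⟨_, ⟨v, hv, rfl⟩, rfl⟩)
      · exact ⟨v, h.le hv, rfl⟩
      · exact ⟨w * v, mul_mem hw (h.le hv), mul_smul _ _ _⟩
  · rw [Finset.disjoint_left]
    intro p h1 h2
    obtain ⟨v, hv, rfl⟩ := mem_orb.1 h1
    obtain ⟨p', h3, e⟩ := Finset.mem_image.1 h2
    obtain ⟨v', hv', rfl⟩ := mem_orb.1 h3
    have h4 : (v⁻¹ * (w * v')) • q = q := by rw [mul_smul, mul_smul, e, inv_smul_smul]
    have h5 := mul_mem (mul_mem hv (h.stab _ (mul_mem (inv_mem (h.le hv)) (mul_mem hw (h.le hv'))) h4)) (inv_mem hv')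
    exact hw₂ (by simpa [mul_assoc] using h5)

theorem card_eq : (orb V q).card = 2 * (orb V₂ q).card := by
  obtain ⟨e, hd⟩ := h.orb_eq hw hw₂
  rw [e, Finset.card_union_of_disjoint hd, Finset.card_image_of_injective _ (MulAction.injective w), two_mul]

/-- The product of an element of the subgroup. -/
theorem tau_mem {x : G} (hx : x ∈ V₂) : tau χ (orb V q) x = tau χ (orb V₂ q) (x * (w⁻¹ * x * w)) := by
  obtain ⟨e, hd⟩ := h.orb_eq hw hw₂
  rw [e, tau, Finset.prod_union hd, tau_orb_mul χ q x (h.conj_mem hw hw₂ hx)]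
  congr 1
  show tau χ ((orb V₂ q).image (w • ·)) x = _
  conv_lhs => rw [show x = w * (w⁻¹ * x * w) * w⁻¹ by group]
  exact tau_conj χ w (smul_orb q (h.conj_mem hw hw₂ hx))

/-- The product of an element outside. -/
theorem tau_out : tau χ (orb V q) w = tau χ (orb V₂ q) (w * w) := by
  obtain ⟨e, hd⟩ := h.orb_eq hw hw₂
  rw [e, tau, Finset.prod_union hd, tau_mul χ (orb V₂ q) w w, mul_comm]
  rfl

/-- If the values on the subgroup vanish, so do all values. -/
theorem tau_eq_one (h1 : ∀ x ∈ V₂, tau χ (orb V₂ q) (x * (w⁻¹ * x * w)) = 1)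
    (h2 : tau χ (orb V₂ q) (w * w) = 1) : ∀ x ∈ V, tau χ (orb V q) x = 1 := by
  intro x hx
  by_cases hx2 : x ∈ V₂
  · rw [h.tau_mem hw hw₂ hx2, h1 x hx2]
  · have hv := h.two x hx w hw hx2 hw₂
    rw [show x = w * (w⁻¹ * x) by group, tau_orb_mul χ q w (h.le hv), h.tau_out hw hw₂, h2,
      h.tau_mem hw hw₂ hv, h1 _ hv, one_mul]

end Split

/-- The transfer as a homomorphism. -/
noncomputable def total : G →* ℤˣ :=
  letI := Fintype.ofFinite (G ⧸ N)
  MonoidHom.mk' (fun x => tau χ Finset.univ x) fun x y => by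
    rw [tau_mul, Finset.image_univ_of_surjective (MulAction.surjective y)]

end Cfsg.Agent.Fus.RudTransfer
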