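import Cfsg.Agent.Lib.Fus.RudTransfer.Fixed
import Cfsg.Agent.Lib.Fus.RudTransfer.Orbit

/-!
# The normalizer of `W` controls the transfer

A character of `N(W)` with values of order two that is trivial on `W` extends to the group by the transfer: every
orbit of a Sylow subgroup on the cosets other than the fixed one contributes trivially.
-/

set_option autoImplicit false
set_option linter.unusedSectionVars false
set_option linter.style.haveILetI false

open scoped commutatorElement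

namespace Cfsg.Agent.Fus.RudTransfer

open Subgroup MulAction RudType
open scoped Classical Pointwise

variable {G : Type*} [Group G] [Finite G] {T : Sylow 2 G} {W : Subgroup ↥(T : Subgroup G)}

/-- `W` as a subgroup of the group. -/
abbrev wG (T : Sylow 2 G) (W : Subgroup ↥(T : Subgroup G)) : Subgroup G := W.map (T : Subgroup G).subtype

/-- The derived group of `W` as a subgroup of the group. -/
abbrev dG (T : Sylow 2 G) (W : Subgroup ↥(T : Subgroup G)) : Subgroup G :=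
  (phi W).map (T : Subgroup G).subtype

/-- The normalizer of `W`. -/
abbrev nG (T : Sylow 2 G) (W : Subgroup ↥(T : Subgroup G)) : Subgroup G := normalizer (wG T W : Set G)

section facts

variable (h : RudType.Hyp W)
include h

theorem wG_le : wG T W ≤ (T : Subgroup G) := map_subtype_le _

theorem dG_le : dG T W ≤ wG T W := map_mono h.phi_le

theorem card_wG : Nat.card ↥(wG T W) = 2 ^ 11 := by
  rw [card_map_of_injective (subtype_injective _), h.counts.2.2.1]

theorem card_dG : Nat.card ↥(dG T W) = 8 := by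
  rw [card_map_of_injective (subtype_injective _), h.counts.2.2.2]

theorem conj_wG {t x : G} (ht : t ∈ (T : Subgroup G)) (hx : x ∈ wG T W) : t * x * t⁻¹ ∈ wG T W := by
  obtain ⟨a, ha, rfl⟩ := hx
  exact ⟨⟨t, ht⟩ * a * ⟨t, ht⟩⁻¹, h.W_normal.conj_mem _ ha _, rfl⟩

theorem T_le_nG : (T : Subgroup G) ≤ nG T W := fun t ht => by
  rw [mem_normalizer_iff]
  refine fun x => ⟨fun hx => conj_wG h ht hx, fun hx => ?_⟩
  have h1 := conj_wG h (inv_mem ht) hx
  rwa [show t⁻¹ * (t * x * t⁻¹) * t⁻¹⁻¹ = x by group] at h1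

theorem wG_sq {x : G} (hx : x ∈ wG T W) : x * x ∈ dG T W := by
  obtain ⟨a, ha, rfl⟩ := hx
  exact ⟨a * a, h.sq_mem ha, map_mul _ _ _⟩

theorem wG_comm {x y : G} (hx : x ∈ wG T W) (hy : y ∈ wG T W) : ⁅x, y⁆ ∈ dG T W := by
  obtain ⟨a, ha, rfl⟩ := hx
  obtain ⟨b, hb, rfl⟩ := hy
  exact ⟨⁅a, b⁆, h.comm_mem ha hb, map_commutatorElement _ _ _⟩

theorem dG_cent {d x : G} (hd : d ∈ dG T W) (hx : x ∈ wG T W) : d * x = x * d := by
  obtain ⟨a, ha, rfl⟩ := hd
  obtain ⟨b, hb, rfl⟩ := hx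
  rw [← map_mul, ← map_mul, h.phi_comm (h.phi_eq ▸ ha) hb]

theorem dG_sq {d : G} (hd : d ∈ dG T W) : d * d = 1 := by
  obtain ⟨a, ha, rfl⟩ := hd
  rw [← map_mul, h.z_sq (h.phi_eq ▸ ha), map_one]

theorem dG_le_of_index {Q : Subgroup G} (hQ : Q ≤ wG T W) (hcard : 2 ^ 7 ≤ Nat.card ↥Q) : dG T W ≤ Q := by
  have hle : Q.comap (T : Subgroup G).subtype ≤ W := fun x hx => by
    obtain ⟨a, ha, e⟩ := hQ hx
    rwa [← Subtype.ext e]
  have hc : Nat.card ↥(Q.comap (T : Subgroup G).subtype) = Nat.card ↥Q :=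
    Nat.card_congr (subgroupOfEquivOfLe (hQ.trans (wG_le h))).toEquiv
  have h1 := ((Q.comap (T : Subgroup G).subtype).subgroupOf W).card_mul_index
  rw [Nat.card_congr (subgroupOfEquivOfLe hle).toEquiv, hc, h.counts.2.2.1] at h1
  have h2 := h.flat _ hle (show ((Q.comap (T : Subgroup G).subtype).subgroupOf W).index ≤ 16 by
    have := Nat.mul_le_mul_right ((Q.comap (T : Subgroup G).subtype).subgroupOf W).index hcard
    omega)
  rintro _ ⟨a, ha, rfl⟩
  exact h2 ha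

end facts

variable (χ : ↥(nG T W) →* ℤˣ)

theorem chi_conj (n y : ↥(nG T W)) : χ (n * y * n⁻¹) = χ y := by
  rw [map_mul, map_mul, map_inv, mul_comm (χ n), mul_inv_cancel_right]

section fixed

variable (h : RudType.Hyp W)
include h

/-- A conjugate of a stabiliser of a coset inside the Sylow subgroup. -/
theorem exists_embed (q : G ⧸ nG T W) {Q : Subgroup G} (hQ : Q ≤ wG T W) (hfix : ∀ v ∈ Q, v • q = q) :
    ∃ (φ : ↥Q →* ↥(T : Subgroup G)), Function.Injective φ ∧ ∀ v : ↥Q, φ v ∈ W → ∀ (χ : ↥(nG T W) →* ℤˣ),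
      (∀ (x : G) (hx : x ∈ nG T W), x ∈ wG T W → χ ⟨x, hx⟩ = 1) → kap χ (v : G) q = 1 := by
  haveI : Fact (Nat.Prime 2) := ⟨Nat.prime_two⟩
  set g := q.out with hg
  have hmem : ∀ v ∈ Q, g⁻¹ * v * g ∈ nG T W := fun v hv => by
    have := out_mem v q
    rwa [hfix v hv, ← hg] at this
  let ψ : ↥Q →* ↥(nG T W) := MonoidHom.mk' (fun v => ⟨g⁻¹ * v * g, hmem v v.2⟩) fun a b => Subtype.ext (by
    show g⁻¹ * ((a : G) * b) * g = g⁻¹ * a * g * (g⁻¹ * b * g)
    group)
  have hψ : Function.Injective ψ := fun a b e =>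
    Subtype.ext (mul_left_cancel (mul_right_cancel (congrArg Subtype.val e : g⁻¹ * (a : G) * g = g⁻¹ * b * g)))
  have hp : IsPGroup 2 ↥ψ.range := by
    have h1 : IsPGroup 2 ↥Q := T.isPGroup'.to_le (hQ.trans (wG_le h))
    exact h1.of_surjective ψ.rangeRestrict ψ.rangeRestrict_surjective
  obtain ⟨R, hR⟩ := hp.exists_le_sylow
  obtain ⟨n, hn⟩ := MulAction.exists_smul_eq ↥(nG T W) R (T.subtype (T_le_nG h))
  have hin : ∀ v : ↥Q, ((n * ψ v * n⁻¹ : ↥(nG T W)) : G) ∈ (T : Subgroup G) := fun v => by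
    have h1 : n * ψ v * n⁻¹ ∈ ((n • R : Sylow 2 ↥(nG T W)) : Subgroup ↥(nG T W)) :=
      Subgroup.smul_mem_pointwise_smul (ψ v) (MulAut.conj n) (R : Subgroup ↥(nG T W)) (hR ⟨v, rfl⟩)
    rw [hn, Sylow.coe_subtype] at h1
    exact mem_subgroupOf.1 h1
  refine ⟨MonoidHom.mk' (fun v => ⟨_, hin v⟩) fun a b => Subtype.ext ?_, fun a b e => hψ ?_, fun v hv χ hχ => ?_⟩
  · show ((n * ψ (a * b) * n⁻¹ : ↥(nG T W)) : G) = ((n * ψ a * n⁻¹ * (n * ψ b * n⁻¹) : ↥(nG T W)) : G)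
    rw [map_mul]
    congr 1
    group
  · have e1 := congrArg (fun y : ↥(T : Subgroup G) => (y : G)) e
    have e' : n * ψ a * n⁻¹ = n * ψ b * n⁻¹ := Subtype.ext e1
    exact mul_left_cancel (mul_right_cancel e')
  · have h1 : χ (n * ψ v * n⁻¹) = 1 := hχ _ (n * ψ v * n⁻¹).2 ⟨_, hv, rfl⟩
    rw [chi_conj] at h1
    rw [kap]
    refine Eq.trans (congrArg χ (Subtype.ext ?_)) h1
    show ((v : G) • q).out⁻¹ * v * q.out = g⁻¹ * v * g
    rw [hfix v v.2]

variable {χ} (hχ : ∀ (x : G) (hx : x ∈ nG T W), x ∈ wG T W → χ ⟨x, hx⟩ = 1)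
include hχ

/-- The claims on the stabiliser of a coset. -/
theorem stab_values (q : G ⧸ nG T W) {Q : Subgroup G} (hQ : Q ≤ wG T W) (hfix : ∀ v ∈ Q, v • q = q)
    (hcard : 2 ^ 9 ≤ Nat.card ↥Q) :
    (∀ d ∈ dG T W, d • q = q ∧ kap χ d q = 1) ∧ (2 ^ 10 ≤ Nat.card ↥Q → ∀ v ∈ Q, kap χ v q = 1) := by
  obtain ⟨φ, hφ, hval⟩ := exists_embed h q hQ hfix
  have hD : dG T W ≤ Q := dG_le_of_index h hQ (by omega)
  have hc : Nat.card ↥φ.range = Nat.card ↥Q := (Nat.card_congr (MonoidHom.ofInjective hφ).toEquiv).symm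
  set E := ((dG T W).subgroupOf Q).map φ with hE
  have hP : RudType.Central φ.range E := by
    refine ⟨MonoidHom.range_eq_map φ ▸ map_mono le_top, ?_, ?_, ?_, ?_⟩
    · rw [hE, card_map_of_injective hφ, Nat.card_congr (subgroupOfEquivOfLe hD).toEquiv, card_dG h]
    · rintro _ ⟨x, rfl⟩ _ ⟨y, rfl⟩
      refine ⟨⁅x, y⁆, mem_subgroupOf.2 ?_, map_commutatorElement _ _ _⟩
      show ⁅(x : G), (y : G)⁆ ∈ dG T W
      exact wG_comm h (hQ x.2) (hQ y.2)
    · rintro _ ⟨x, rfl⟩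
      exact ⟨x * x, mem_subgroupOf.2 (wG_sq h (hQ x.2)), map_mul _ _ _⟩
    · rintro _ ⟨d, hd, rfl⟩ _ ⟨x, rfl⟩
      rw [← map_mul, ← map_mul, show d * x = x * d from Subtype.ext (dG_cent h (mem_subgroupOf.1 hd) (hQ x.2))]
  refine ⟨fun d hd => ⟨hfix d (hD hd), ?_⟩, fun h10 v hv => ?_⟩
  · exact hval ⟨d, hD hd⟩ (h.central_le hP (by rw [hc]; exact hcard)
      ⟨⟨d, hD hd⟩, mem_subgroupOf.2 hd, rfl⟩) χ hχ
  · exact hval ⟨v, hv⟩ (h.le_W hP (by rw [hc]; exact h10) ⟨⟨v, hv⟩, rfl⟩) χ hχ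

omit hχ in
/-- Only the base coset is fixed by `W`. -/
theorem eq_base (hwc : IsWeaklyClosed (wG T W) (T : Subgroup G)) {q : G ⧸ nG T W}
    (hfix : ∀ v ∈ wG T W, v • q = q) : q = ((1 : G) : G ⧸ nG T W) := by
  haveI : Fact (Nat.Prime 2) := ⟨Nat.prime_two⟩
  set g := q.out with hg
  let c : ↥(wG T W) →* ↥(nG T W) := MonoidHom.mk' (fun v => ⟨g⁻¹ * v * g, by
    have := out_mem (v : G) q
    rwa [hfix v v.2, ← hg] at this⟩) fun a b => Subtype.ext (by
      show g⁻¹ * ((a : G) * b) * g = g⁻¹ * a * g * (g⁻¹ * b * g)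
      group)
  have hp : IsPGroup 2 ↥c.range :=
    (T.isPGroup'.to_le (wG_le h)).of_surjective c.rangeRestrict c.rangeRestrict_surjective
  obtain ⟨R, hR⟩ := hp.exists_le_sylow
  obtain ⟨n, hn⟩ := MulAction.exists_smul_eq ↥(nG T W) R (T.subtype (T_le_nG h))
  have hmap : (wG T W).map (MulAut.conj ((n : G) * g⁻¹)).toMonoidHom ≤ (T : Subgroup G) := by
    rintro _ ⟨v, hv, rfl⟩
    have h1 : n * c ⟨v, hv⟩ * n⁻¹ ∈ ((n • R : Sylow 2 ↥(nG T W)) : Subgroup ↥(nG T W)) :=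
      Subgroup.smul_mem_pointwise_smul (c ⟨v, hv⟩) (MulAut.conj n) (R : Subgroup ↥(nG T W)) (hR ⟨⟨v, hv⟩, rfl⟩)
    rw [hn, Sylow.coe_subtype] at h1
    have h2 : (n : G) * (g⁻¹ * v * g) * (n : G)⁻¹ ∈ (T : Subgroup G) := mem_subgroupOf.1 h1
    simpa [mul_assoc] using h2
  have heq := hwc.2 _ hmap
  have hmem : (n : G) * g⁻¹ ∈ nG T W := by
    rw [mem_normalizer_iff]
    intro x
    constructor
    · intro hx
      rw [← heq]
      exact ⟨x, hx, rfl⟩
    · intro hx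
      rw [← heq] at hx
      obtain ⟨y, hy, e⟩ := hx
      rwa [← (MulAut.conj ((n : G) * g⁻¹)).injective e]
  have hgN : g ∈ nG T W := by
    have := mul_mem (inv_mem n.2) hmem
    rwa [inv_mul_cancel_left, inv_mem_iff] at this
  rw [← QuotientGroup.out_eq' q, ← hg, QuotientGroup.eq, mul_one]
  exact inv_mem hgN

omit hχ in
/-- The size of an orbit of a subgroup of `W`. -/
theorem orb_card_mul (V : Subgroup G) (q : G ⧸ nG T W) :
    (orb V q).card * Nat.card ↥(V ⊓ stabilizer G q : Subgroup G) = Nat.card ↥V := by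
  have h1 := Nat.card_congr (orbitProdStabilizerEquivGroup ↥V q)
  rw [Nat.card_prod] at h1
  rw [← h1, orb, ← Nat.card_eq_card_finite_toFinset]
  congr 1
  refine (Nat.card_congr ?_).symm
  exact
    { toFun := fun x => ⟨((x : ↥V) : G), (x : ↥V).2, x.2⟩
      invFun := fun x => ⟨⟨x, x.2.1⟩, x.2.2⟩
      left_inv := fun x => rfl
      right_inv := fun x => rfl }

omit hχ in
theorem two_pow_orb (V : Subgroup G) (hV : V ≤ wG T W) (q : G ⧸ nG T W) : ∃ k, (orb V q).card = 2 ^ k := by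
  have h1 : (orb V q).card ∣ 2 ^ 11 := by
    rw [← card_wG h]
    exact Dvd.dvd.trans ⟨_, (orb_card_mul h V q).symm⟩ (card_dvd_of_le hV)
  obtain ⟨k, -, hk⟩ := (Nat.dvd_prime_pow Nat.prime_two).1 h1
  exact ⟨k, hk⟩

omit hχ in
theorem exists_split_W {V : Subgroup G} (hV : V ≤ wG T W) (q : G ⧸ nG T W) (h2 : 2 ≤ (orb V q).card) :
    ∃ V₂ w, Split V V₂ q ∧ w ∈ V ∧ w ∉ V₂ := by
  have hne : V ⊓ stabilizer G q ≠ V := fun e => by
    rw [orb_eq_singleton fun v hv => (e.ge hv).2, Finset.card_singleton] at h2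
    omega
  obtain ⟨V₂, -, hne2, hs⟩ := exists_split (T.isPGroup'.to_le (hV.trans (wG_le h))) inf_le_left hne q
    fun v hv e => ⟨hv, e⟩
  obtain ⟨w, hw, hw2⟩ := SetLike.not_le_iff_exists.1 fun hle => hne2 (le_antisymm hs.le hle)
  exact ⟨V₂, w, hs, hw, hw2⟩

omit hχ in
/-- The central elements contribute nothing on an orbit of size at least two. -/
theorem tau_dG (χ : ↥(nG T W) →* ℤˣ) {V : Subgroup G} (hV : V ≤ wG T W) (q : G ⧸ nG T W)
    (h2 : 2 ≤ (orb V q).card) {d : G} (hd : d ∈ dG T W) (hdV : d ∈ V) : tau χ (orb V q) d = 1 := by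
  obtain ⟨V₂, w, hs, hw, hw2⟩ := exists_split_W h hV q h2
  by_cases hd2 : d ∈ V₂
  · rw [hs.tau_mem hw hw2 hd2, show w⁻¹ * d * w = d by rw [mul_assoc, dG_cent h hd (hV hw), inv_mul_cancel_left],
      dG_sq h hd, tau_one]
  · rw [hs.tau_out hdV hd2, dG_sq h hd, tau_one]

/-- Elements of `W` contribute nothing on large orbits. -/
theorem tau_wG {V : Subgroup G} (hV : V ≤ wG T W) (q : G ⧸ nG T W) (h2 : 2 ≤ (orb V q).card)
    (hsmall : (orb V q).card < 4 → ∀ d ∈ dG T W, d • q = q ∧ kap χ d q = 1) :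
    ∀ v ∈ V, tau χ (orb V q) v = 1 := by
  obtain ⟨V₂, w, hs, hw, hw2⟩ := exists_split_W h hV q h2
  have hcard := hs.card_eq hw hw2
  have key : ∀ d ∈ dG T W, d ∈ V₂ → tau χ (orb V₂ q) d = 1 := by
    intro d hd hd2
    by_cases h4 : 2 ≤ (orb V₂ q).card
    · exact tau_dG h χ (hs.le.trans hV) q h4 hd hd2
    · have h1 : (orb V₂ q).card = 1 := by
        have := Finset.card_pos.2 ⟨q, self_mem_orb V₂ q⟩
        omega
      obtain ⟨p, hp⟩ := Finset.card_eq_one.1 h1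
      have hpq : q = p := Finset.mem_singleton.1 (hp ▸ self_mem_orb V₂ q)
      rw [hp, ← hpq, tau_singleton]
      exact (hsmall (by omega) d hd).2
  refine hs.tau_eq_one hw hw2 (fun x hx => key _ ?_ (mul_mem hx (hs.conj_mem hw hw2 hx)))
    (key _ (wG_sq h (hV hw)) (hs.sq_mem hw hw2))
  rw [show x * (w⁻¹ * x * w) = x * x * ⁅x⁻¹, w⁻¹⁆ by rw [commutatorElement_def]; group]
  exact mul_mem (wG_sq h (hV (hs.le hx))) (wG_comm h (inv_mem (hV (hs.le hx))) (inv_mem (hV hw)))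

/-- The orbits of `W` other than the fixed coset. -/
theorem tau_base (hwc : IsWeaklyClosed (wG T W) (T : Subgroup G)) {V : Subgroup G} (hWV : wG T W ≤ V)
    (hVT : V ≤ (T : Subgroup G)) {q : G ⧸ nG T W} (hq : q ≠ ((1 : G) : G ⧸ nG T W))
    (horb : orb V q = orb (wG T W) q) : ∀ x ∈ V, tau χ (orb V q) x = 1 := by
  have hne1 : 2 ≤ (orb V q).card := by
    by_contra hlt
    refine hq (eq_base h hwc fun v hv => ?_)
    have h1 : (orb V q).card = 1 := by
      have := Finset.card_pos.2 ⟨q, self_mem_orb V q⟩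
      omega
    obtain ⟨p, hp⟩ := Finset.card_eq_one.1 h1
    have hm : v • q ∈ orb V q := mem_orb.2 ⟨v, hWV hv, rfl⟩
    have hpq : q = p := Finset.mem_singleton.1 (hp ▸ self_mem_orb V q)
    rw [hp, ← hpq] at hm
    exact Finset.mem_singleton.1 hm
  have hcov : ∀ v ∈ V, ∃ x ∈ wG T W, (x⁻¹ * v) • q = q := fun v hv => by
    obtain ⟨x, hx, e⟩ := mem_orb.1 (horb ▸ mem_orb.2 ⟨v, hv, rfl⟩ : v • q ∈ orb (wG T W) q)
    exact ⟨x, hx, by rw [mul_smul, inv_smul_eq_iff, e]⟩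
  have hne : V ⊓ stabilizer G q ≠ V := fun e => by
    rw [orb_eq_singleton fun v hv => (e.ge hv).2, Finset.card_singleton] at hne1
    omega
  obtain ⟨V₂, -, hne2, hs⟩ := exists_split (T.isPGroup'.to_le hVT) inf_le_left hne q fun v hv e => ⟨hv, e⟩
  obtain ⟨w, hwW, hw2⟩ : ∃ w ∈ wG T W, w ∉ V₂ := by
    by_contra hall
    push Not at hall
    refine hne2 (le_antisymm hs.le fun v hv => ?_)
    obtain ⟨x, hx, e⟩ := hcov v hv
    have := mul_mem (hall x hx) (hs.stab _ (mul_mem (inv_mem (hWV hx)) hv) e)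
    rwa [mul_inv_cancel_left] at this
  have hw : w ∈ V := hWV hwW
  set W₂ := wG T W ⊓ V₂ with hW₂
  have horb2 : orb V₂ q = orb W₂ q := by
    ext p
    simp only [mem_orb]
    constructor
    · rintro ⟨v, hv, rfl⟩
      obtain ⟨x, hx, e⟩ := hcov v (hs.le hv)
      refine ⟨x, ⟨hx, ?_⟩, by rw [← smul_left_cancel_iff x⁻¹, inv_smul_smul, smul_smul, e]⟩
      have := mul_mem hv (inv_mem (hs.stab _ (mul_mem (inv_mem (hWV hx)) (hs.le hv)) e))
      rwa [mul_inv_rev, inv_inv, mul_inv_cancel_left] at this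
    · rintro ⟨v, hv, rfl⟩
      exact ⟨v, hv.2, rfl⟩
  have hcard := hs.card_eq hw hw2
  have hQ : ∀ {k : ℕ}, (orb V q).card ≤ 2 ^ k →
      2 ^ 11 ≤ 2 ^ k * Nat.card ↥(wG T W ⊓ stabilizer G q : Subgroup G) := fun {k} hk => by
    have h1 := orb_card_mul h (wG T W) q
    rw [← horb, card_wG h] at h1
    rw [← h1]
    exact Nat.mul_le_mul_right _ hk
  have hW2 : ∀ v ∈ W₂, tau χ (orb V₂ q) v = 1 := by
    intro v hv
    rw [horb2]
    by_cases h2 : 2 ≤ (orb W₂ q).card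
    · refine tau_wG h hχ inf_le_left q h2 (fun h4 => ?_) v hv
      obtain ⟨k, hk⟩ := two_pow_orb h W₂ inf_le_left q
      have hk1 : k ≤ 1 := by
        by_contra hc
        have : 2 ^ 2 ≤ 2 ^ k := Nat.pow_le_pow_right two_pos (by omega)
        rw [← hk] at this
        norm_num at this
        change (orb W₂ q).card < 4 at h4
        omega
      have h5 := hQ (k := 2) (by
        rw [hcard, horb2, hk]
        calc 2 * 2 ^ k ≤ 2 * 2 ^ 1 := Nat.mul_le_mul_left _ (Nat.pow_le_pow_right two_pos hk1)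
          _ = 2 ^ 2 := by norm_num)
      exact (stab_values h hχ q (Q := wG T W ⊓ stabilizer G q) inf_le_left (fun v hv => hv.2) (by omega)).1
    · have h1 : (orb W₂ q).card = 1 := by
        have := Finset.card_pos.2 ⟨q, self_mem_orb W₂ q⟩
        omega
      obtain ⟨p, hp⟩ := Finset.card_eq_one.1 h1
      have hpq : q = p := Finset.mem_singleton.1 (hp ▸ self_mem_orb W₂ q)
      have hm : v • q = q := Finset.mem_singleton.1 (by
        have : v • q ∈ orb W₂ q := mem_orb.2 ⟨v, hv, rfl⟩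
        rwa [hp, ← hpq] at this)
      rw [hp, ← hpq, tau_singleton]
      have h5 := hQ (k := 1) (by rw [hcard, horb2, h1]; norm_num)
      exact (stab_values h hχ q (Q := wG T W ⊓ stabilizer G q) inf_le_left (fun v hv => hv.2) (by omega)).2 (by omega) v ⟨hv.1, hm⟩
  refine hs.tau_eq_one hw hw2 (fun x hx => ?_) (hW2 _ ⟨mul_mem hwW hwW, hs.sq_mem hw hw2⟩)
  have hc : x⁻¹ * (w⁻¹ * x * w) ∈ W₂ := by
    refine ⟨?_, V₂.mul_mem (V₂.inv_mem hx) (hs.conj_mem hw hw2 hx)⟩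
    rw [show x⁻¹ * (w⁻¹ * x * w) = x⁻¹ * w⁻¹ * x⁻¹⁻¹ * w by group]
    exact (wG T W).mul_mem (conj_wG h (inv_mem (hVT (hs.le hx))) ((wG T W).inv_mem hwW)) hwW
  rw [show x * (w⁻¹ * x * w) = x * x * (x⁻¹ * (w⁻¹ * x * w)) by group, tau_orb_mul χ q _ hc.2,
    tau_orb_mul χ q x hx, Int.units_mul_self, hW2 _ hc, one_mul]

/-- The orbits of larger two-groups. -/
theorem tau_orbit (hwc : IsWeaklyClosed (wG T W) (T : Subgroup G)) (V : Subgroup G) (hWV : wG T W ≤ V)
    (hVT : V ≤ (T : Subgroup G)) {q : G ⧸ nG T W} (hq : q ≠ ((1 : G) : G ⧸ nG T W)) :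
    ∀ x ∈ V, tau χ (orb V q) x = 1 := by
  induction hk : Nat.card ↥V using Nat.strong_induction_on generalizing V q with
  | _ k ih =>
  set K := wG T W ⊔ (V ⊓ stabilizer G q) with hK
  by_cases hKV : K = V
  · refine tau_base h hχ hwc hWV hVT hq ?_
    ext p
    simp only [mem_orb]
    constructor
    · rintro ⟨v, hv, rfl⟩
      have hn : V ⊓ stabilizer G q ≤ nG T W := inf_le_left.trans (hVT.trans (T_le_nG h))
      have hv' : v ∈ (↑(wG T W) : Set G) * ↑(V ⊓ stabilizer G q) := by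
        rw [← Subgroup.coe_mul_of_right_le_normalizer_left _ _ hn]
        exact hKV.ge hv
      obtain ⟨x, hx, u, hu, rfl⟩ := Set.mem_mul.1 hv'
      exact ⟨x, hx, by rw [mul_smul, show u • q = q from hu.2]⟩
    · rintro ⟨v, hv, rfl⟩
      exact ⟨v, hWV hv, rfl⟩
  obtain ⟨V₂, hKV2, hne2, hs⟩ := exists_split (T.isPGroup'.to_le hVT) (sup_le hWV inf_le_left) hKV q
    fun v hv e => mem_sup_right ⟨hv, e⟩
  obtain ⟨w, hw, hw2⟩ := SetLike.not_le_iff_exists.1 fun hle => hne2 (le_antisymm hs.le hle)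
  have hlt : Nat.card ↥V₂ < k := hk ▸ lt_of_not_ge fun hge =>
    hne2 (Subgroup.eq_of_le_of_card_ge hs.le hge)
  have hz := ih _ hlt V₂ (le_sup_left.trans hKV2) (hs.le.trans hVT) hq rfl
  exact hs.tau_eq_one hw hw2 (fun x hx => hz _ (mul_mem hx (hs.conj_mem hw hw2 hx))) (hz _ (hs.sq_mem hw hw2))

omit hχ in
theorem isWeaklyClosed : IsWeaklyClosed (wG T W) (T : Subgroup G) :=
  weaklyClosed_of_unique _ W fun _ ⟨e⟩ => h.eq_of_equiv e

/-- The transfer agrees with the character on the Sylow subgroup. -/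
theorem total_eq {x : G} (hx : x ∈ (T : Subgroup G)) : total χ x = χ ⟨x, T_le_nG h hx⟩ := by
  letI := Fintype.ofFinite (G ⧸ nG T W)
  set q₀ : G ⧸ nG T W := ((1 : G) : G ⧸ nG T W) with hq₀
  have hfix : ∀ v ∈ nG T W, v • q₀ = q₀ := fun v hv => by
    rw [hq₀, MulAction.Quotient.smul_coe, QuotientGroup.eq, smul_eq_mul, mul_one, mul_one]
    exact inv_mem hv
  have key : ∀ S : Finset (G ⧸ nG T W), q₀ ∉ S → (∀ t ∈ (T : Subgroup G), ∀ p ∈ S, t • p ∈ S) → tau χ S x = 1 := by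
    intro S
    induction S using Finset.strongInduction with
    | _ S ih =>
    intro h0 hS
    rcases S.eq_empty_or_nonempty with e | ⟨p, hp⟩
    · rw [e]; rfl
    have hsub : orb (T : Subgroup G) p ⊆ S := fun p' hp' => by
      obtain ⟨t, ht, rfl⟩ := mem_orb.1 hp'
      exact hS t ht p hp
    have h1 : tau χ S x = tau χ (S \ orb (T : Subgroup G) p) x * tau χ (orb (T : Subgroup G) p) x :=
      (Finset.prod_sdiff hsub).symm
    rw [h1, ih _ (Finset.sdiff_ssubset hsub ⟨p, self_mem_orb _ p⟩) (fun hm => h0 (Finset.mem_sdiff.1 hm).1)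
      (fun t ht p' hp' => by
        rw [Finset.mem_sdiff] at hp' ⊢
        refine ⟨hS t ht p' hp'.1, fun hm => hp'.2 ?_⟩
        obtain ⟨s, hs, e⟩ := mem_orb.1 hm
        exact mem_orb.2 ⟨t⁻¹ * s, mul_mem (inv_mem ht) hs, by rw [mul_smul, e, inv_smul_smul]⟩),
      tau_orbit h hχ (isWeaklyClosed h) _ (wG_le h) le_rfl (fun e => h0 (by rw [hq₀, ← e]; exact hp)) x hx, one_mul]
  show tau χ Finset.univ x = _
  rw [show tau χ Finset.univ x = kap χ x q₀ * tau χ (Finset.univ.erase q₀) x from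
    (Finset.mul_prod_erase _ _ (Finset.mem_univ q₀)).symm,
    key _ (Finset.notMem_erase _ _) (fun t ht p hp => Finset.mem_erase.2 ⟨fun e => (Finset.mem_erase.1 hp).1 (by
      rw [← smul_left_cancel_iff t, e, hfix t (T_le_nG h ht)]), Finset.mem_univ _⟩), mul_one]
  have hout : q₀.out ∈ nG T W := by
    have := QuotientGroup.eq.1 (QuotientGroup.out_eq' q₀)
    rwa [mul_one, inv_mem_iff] at this
  rw [kap, show (⟨(x • q₀).out⁻¹ * x * q₀.out, out_mem x q₀⟩ : ↥(nG T W)) =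
    ⟨q₀.out, hout⟩⁻¹ * ⟨x, T_le_nG h hx⟩ * ⟨q₀.out, hout⟩⁻¹⁻¹ from Subtype.ext (by
      show (x • q₀).out⁻¹ * x * q₀.out = q₀.out⁻¹ * x * q₀.out⁻¹⁻¹
      rw [hfix x (T_le_nG h hx), inv_inv]), chi_conj]

/-- A group without a subgroup of index two allows only trivial characters. -/
theorem chi_eq_one (h2 : ∀ H : Subgroup G, H.index ≠ 2) : χ = 1 := by
  haveI : Fact (Nat.Prime 2) := ⟨Nat.prime_two⟩
  have htot : ∀ x, total χ x = 1 := by
    intro x
    by_contra hx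
    refine h2 (total χ).ker ?_
    rw [index_ker, show (total χ).range = ⊤ from (eq_top_iff' _).2 fun u => by
      rcases Int.units_eq_one_or u with e | e
      · rw [e]; exact one_mem _
      · exact ⟨x, ((Int.units_eq_one_or _).resolve_left hx).trans e.symm⟩, card_top, Nat.card_eq_fintype_card,
      Fintype.card_units_int]
  refine MonoidHom.ext fun n => ?_
  rw [MonoidHom.one_apply]
  -- a subgroup of index at most two containing a Sylow subgroup is everything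
  have hle : (T.subtype (T_le_nG h) : Subgroup ↥(nG T W)) ≤ χ.ker := fun t ht => by
    rw [MonoidHom.mem_ker]
    have h1 := total_eq h hχ (show (t : G) ∈ (T : Subgroup G) by rwa [Sylow.coe_subtype] at ht)
    rw [htot] at h1
    exact h1.symm
  have h3 := index_dvd_of_le hle
  have h4 : χ.ker.index ∣ 2 := by
    rw [index_ker]
    exact (Subgroup.card_subgroup_dvd_card _).trans (by rw [Nat.card_eq_fintype_card, Fintype.card_units_int])
  have h5 : χ.ker.index = 1 := by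
    rcases (Nat.dvd_prime Nat.prime_two).1 h4 with e | e
    · exact e
    · rw [e] at h3
      exact absurd h3 (T.subtype (T_le_nG h)).not_dvd_index
  exact MonoidHom.mem_ker.1 ((index_eq_one.1 h5).symm ▸ mem_top n)

end fixed

end Cfsg.Agent.Fus.RudTransfer
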