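import Cfsg.Agent.Lib.Fus.RudTypeLocal

/-!
# Large subgroups with a central elementary subgroup of order eight

In a two-group of Rudvalis type, a subgroup of order at least `2 ^ 9` with squares and commutators in a central
subgroup of order eight has that subgroup inside `W`; of order at least `2 ^ 10` it lies in `W` itself.
-/

set_option autoImplicit false
set_option linter.unusedSectionVars false
set_option linter.style.haveILetI false

open scoped commutatorElement

namespace Cfsg.Agent.Fus.RudType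

open Subgroup

variable {T : Type*} [Group T] [Finite T] {W : Subgroup T}

/-- A subgroup with squares and commutators in a central subgroup of order eight. -/
structure Central (P E : Subgroup T) : Prop where
  le : E ≤ P
  card : Nat.card E = 8
  comm : ∀ x ∈ P, ∀ y ∈ P, ⁅x, y⁆ ∈ E
  sq : ∀ x ∈ P, x * x ∈ E
  cent : ∀ d ∈ E, ∀ x ∈ P, d * x = x * d

namespace Hyp

variable (h : Hyp W)
include h

/-- An element of the third centre outside the second is fixed by at most two cosets of `W`. -/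
theorem card_stab_le {H : Subgroup T} {e : T} (he : e ∈ ucs T 3) (he' : e ∉ ucs T 2)
    (hH : ∀ t ∈ H, t * e = e * t) : Nat.card H ≤ 2 * Nat.card W := by
  obtain ⟨g2, g3, a, b, c, d⟩ := h.exists_gens
  have hfix : ∀ y : ↥(ucs T 2), ∃ t : T, t * e * t⁻¹ = (y : T) * e := by
    intro y
    obtain ⟨t, ht2, ht3⟩ := h.exists_act a b c d (one_mem _) y.2
    rw [one_mul] at ht2
    have hfix1 : ∀ z ∈ ucs T 1, t * z * t⁻¹ = z := fun z hz => by
      have := h.comm_one (i := 0) hz t
      simp only [ucs, Subgroup.upperCentralSeries_zero, mem_bot] at this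
      exact mul_inv_eq_one.1 this
    have hfix2 : ∀ z ∈ ucs T 2, t * z * t⁻¹ = z := fun z hz => by
      by_cases hz1 : z ∈ ucs T 1
      · exact hfix1 z hz1
      have h1 := hfix1 _ (h.step_two (i := 1) (by omega) hz a hz1 b)
      rw [show t * (z * g2) * t⁻¹ = t * z * t⁻¹ * (t * g2 * t⁻¹) by group, ht2] at h1
      exact mul_right_cancel h1
    have hm := h.step_two (i := 2) (by omega) he c he' d
    refine ⟨t, ?_⟩
    have hg3 : t * g3⁻¹ * t⁻¹ = g3⁻¹ * (y : T)⁻¹ := by
      rw [show t * g3⁻¹ * t⁻¹ = (t * g3 * t⁻¹)⁻¹ by group, ht3, mul_inv_rev]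
    rw [show t * e * t⁻¹ = t * (e * g3) * t⁻¹ * (t * g3⁻¹ * t⁻¹) by group, hfix2 _ hm, hg3,
      show e * g3 * (g3⁻¹ * (y : T)⁻¹) = e * (y : T)⁻¹ by group,
      h.z_inv (Subgroup.upperCentralSeries_mono T (by omega : 2 ≤ 3) y.2),
      h.phi_comm he (h.z_le (by omega) y.2)]
  choose f hf using hfix
  have hinj : Function.Injective fun y => (f y : T ⧸ H) := by
    intro y y' hy
    have h1 := hH _ (QuotientGroup.eq.1 hy)
    refine Subtype.ext (mul_right_cancel (b := e) ?_)
    rw [← hf y, ← hf y']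
    calc f y * e * (f y)⁻¹ = f y * (e * ((f y)⁻¹ * f y')) * (f y')⁻¹ := by group
      _ = f y * ((f y)⁻¹ * f y' * e) * (f y')⁻¹ := by rw [h1]
      _ = f y' * e * (f y')⁻¹ := by group
  have h4 := Nat.card_le_card_of_injective _ hinj
  rw [h.card_ucs (i := 2) (by omega)] at h4
  have h1 := H.card_mul_index
  obtain ⟨hT, hidx, hW, -⟩ := h.counts
  rw [hT] at h1
  have := Nat.mul_le_mul_left (Nat.card H) (show 4 ≤ H.index from h4)
  rw [hW]
  omega

theorem index_le_four {H : Subgroup T} (hWH : W ≤ H) (hne : ¬ H ≤ W) : H.index ≤ 4 := by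
  obtain ⟨hT, hidx, hW, -⟩ := h.counts
  have h2 := index_dvd_of_le hWH
  rw [hidx] at h2
  have h8 : H.index ≠ 8 := fun e8 => by
    have h3 := H.card_mul_index
    rw [e8, hT] at h3
    exact hne (le_of_eq (Subgroup.eq_of_le_of_card_ge hWH (by rw [hW]; omega)).symm)
  have := Nat.le_of_dvd (by norm_num) h2
  interval_cases hx : H.index <;> omega

/-- The elements commuting with `x` modulo the Frattini subgroup. -/
def modCent (h : Hyp W) (x : T) : Subgroup T where
  carrier := {t | ⁅t, x⁆ ∈ phi W}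
  one_mem' := by
    show ⁅(1 : T), x⁆ ∈ phi W
    rw [commutatorElement_one_left]
    exact one_mem _
  mul_mem' := fun {s t} hs ht => by
    show ⁅s * t, x⁆ ∈ phi W
    rw [show ⁅s * t, x⁆ = s * ⁅t, x⁆ * s⁻¹ * ⁅s, x⁆ by simp only [commutatorElement_def]; group]
    exact mul_mem (h.phi_normal.conj_mem _ ht s) hs
  inv_mem' := fun {s} hs => by
    show ⁅s⁻¹, x⁆ ∈ phi W
    rw [show ⁅s⁻¹, x⁆ = s⁻¹ * ⁅s, x⁆⁻¹ * s⁻¹⁻¹ by simp only [commutatorElement_def]; group]
    exact h.phi_normal.conj_mem _ (inv_mem hs) _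

theorem W_le_modCent {x : T} (hx : x ∈ W) : W ≤ h.modCent x := fun _ hw => h.comm_mem hw hx

/-- The vectors of `W` modulo the Frattini subgroup fixed by a group. -/
theorem card_fixed_le {H X : Subgroup T} (hX : X ≤ W)
    (hcomm : ∀ x ∈ X, H ≤ h.modCent x) {k : ℕ} (hk : H.index ≤ k) :
    Nat.card X ≤ 2 ^ k * Nat.card (X ⊓ phi W : Subgroup T) := by
  classical
  obtain ⟨M, hM⟩ := h.exists_maximal
  let F : X → (T ⧸ H → ZMod 2) := fun x q => coord W M (x : T) ((q.out : T) : T ⧸ W)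
  have hstep : ∀ (x : X) (t s : T), s ∈ H →
      coord W M (x : T) ((t * s : T) : T ⧸ W) = coord W M (x : T) (t : T ⧸ W) := by
    intro x t s hs
    have hsx : s * x * s⁻¹ ∈ W := h.W_normal.conj_mem _ (hX x.2) s
    rw [← hM.coord_conj h (hX x.2) s t]
    refine congrFun ((hM.coord_eq_iff h hsx (hX x.2)).2 ?_) _
    have h1 : ⁅s, (x : T)⁆ ∈ phi W := hcomm x x.2 hs
    rw [commutatorElement_def] at h1
    have h2 := h.phi_normal.conj_mem _ (inv_mem h1) (x : T)⁻¹
    rw [show ((x : T)⁻¹ * (s * x * s⁻¹ * (x : T)⁻¹)⁻¹ * (x : T)⁻¹⁻¹) = (s * x * s⁻¹)⁻¹ * x by group] at h2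
    exact h2
  have hker : ∀ x x' : X, F x = F x' → (x : T)⁻¹ * x' ∈ X ⊓ phi W := by
    intro x x' e
    refine ⟨X.mul_mem (X.inv_mem x.2) x'.2, (hM.coord_eq_iff h (hX x.2) (hX x'.2)).1 ?_⟩
    funext q
    induction q using QuotientGroup.induction_on with
    | _ t =>
      obtain ⟨s, hs⟩ := QuotientGroup.mk_out_eq_mul H t
      have h1 : coord W M (x : T) (((t : T ⧸ H).out : T) : T ⧸ W) = coord W M (x' : T) (((t : T ⧸ H).out : T) : T ⧸ W) :=
        congrFun e (t : T ⧸ H)
      rw [hs, hstep x t s s.2, hstep x' t s s.2] at h1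
      exact h1
  let r : X → X := fun x => Function.invFun F (F x)
  have hinj : Function.Injective fun x : X => ((F x, ⟨((r x : X) : T)⁻¹ * x,
      hker _ _ (Function.invFun_eq ⟨x, rfl⟩)⟩) : (T ⧸ H → ZMod 2) × ↥(X ⊓ phi W)) := by
    intro x x' e
    obtain ⟨e1, e2⟩ := Prod.ext_iff.1 e
    have e3 : ((r x : X) : T)⁻¹ * x = ((r x' : X) : T)⁻¹ * x' := congrArg Subtype.val e2
    simp only [r] at e1 e3
    rw [e1] at e3
    exact Subtype.ext (mul_left_cancel e3)
  refine (Nat.card_le_card_of_injective _ hinj).trans ?_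
  rw [Nat.card_prod, Nat.card_fun, Nat.card_zmod]
  exact Nat.mul_le_mul_right _ (Nat.pow_le_pow_right two_pos hk)

theorem card_fix_third {H : Subgroup T} (hH : ¬ H ≤ W) :
    Nat.card (centralizer (H : Set T) ⊓ ucs T 3 : Subgroup T) ≤ 4 := by
  have h1 := card_dvd_of_le (inf_le_right : centralizer (H : Set T) ⊓ ucs T 3 ≤ ucs T 3)
  rw [h.card_ucs (i := 3) (by omega)] at h1
  obtain ⟨i, hi, e⟩ := (Nat.dvd_prime_pow Nat.prime_two).1 h1
  rw [e]
  rcases Nat.lt_or_ge i 3 with h3 | h3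
  · exact Nat.pow_le_pow_right two_pos (show i ≤ 2 by omega)
  exfalso
  have he : centralizer (H : Set T) ⊓ ucs T 3 = ucs T 3 :=
    Subgroup.eq_of_le_of_card_ge inf_le_right (by rw [e, h.card_ucs (i := 3) (by omega), show i = 3 by omega])
  refine hH fun t ht => ?_
  rw [h.cent, mem_centralizer_iff]
  intro z hz
  rw [← he] at hz
  exact (mem_centralizer_iff.1 hz.1 t ht).symm

/-- A subgroup covering the quotient. -/
theorem exists_rep {P : Subgroup T} (htop : P ⊔ W = ⊤) (t : T) : ∃ p ∈ P, ∃ w ∈ W, p = t * w := by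
  haveI := h.W_normal
  have ht : t ∈ P ⊔ W := htop ▸ mem_top t
  obtain ⟨p, hp, w, hw, e⟩ := mem_sup_of_normal_right.1 ht
  exact ⟨p, hp, w⁻¹, inv_mem hw, by rw [← e, mul_inv_cancel_right]⟩

variable {P E : Subgroup T} (hP : Central P E)
include hP

omit hP in
/-- The product with `W`. -/
theorem card_sup : Nat.card (P ⊔ W : Subgroup T) * Nat.card (P ⊓ W : Subgroup T) = Nat.card P * 2 ^ 11 := by
  haveI := h.W_normal
  rw [Grp.card_sup_mul_card_inf_normal, h.counts.2.2.1]

omit hP in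
theorem card_inter : Nat.card P ≤ 8 * Nat.card (P ⊓ W : Subgroup T) := by
  have h1 := h.card_sup (P := P)
  have h2 := (Subgroup.card_le_card_group (P ⊔ W)).trans h.counts.1.le
  have := Nat.mul_le_mul_right (Nat.card (P ⊓ W : Subgroup T)) h2
  omega

/-- The central subgroup lies in `W`. -/
theorem central_le (hcard : 2 ^ 9 ≤ Nat.card P) : E ≤ W := by
  haveI := h.W_normal
  by_contra hno
  obtain ⟨d, hdE, hdW⟩ := SetLike.not_le_iff_exists.1 hno
  obtain ⟨hT, hidx, hW, -⟩ := h.counts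
  set X := P ⊓ W with hXdef
  have hXd : Nat.card X ≤ 64 := by
    set H := zpowers d ⊔ W with hHdef
    have hd' : d ∈ H := mem_sup_left (mem_zpowers d)
    have hcd : ∀ x ∈ X, Commute d x := fun x hx => hP.cent d hdE x hx.1
    have h5 := h.card_fixed_le (H := H) (X := X) inf_le_right (fun x hx => sup_le (zpowers_le.2 (by
      show ⁅d, x⁆ ∈ phi W
      rw [commutatorElement_eq_one_iff_mul_comm.2 (hcd x hx).eq]
      exact one_mem _)) (h.W_le_modCent hx.2)) (h.index_le_four le_sup_right fun hle => hdW (hle hd'))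
    refine h5.trans (le_of_le_of_eq (Nat.mul_le_mul_left _ ((card_le_of_le ?_).trans
      (h.card_fix_third (H := zpowers d) fun hle => hdW (hle (mem_zpowers d))))) (by norm_num))
    intro x hx
    refine ⟨mem_centralizer_iff.2 fun s hs => ?_, h.phi_eq ▸ hx.2⟩
    obtain ⟨n, rfl⟩ := mem_zpowers_iff.1 hs
    exact ((hcd x hx.1).zpow_left n).eq
  -- so `P` covers the quotient
  have hX := h.card_inter (P := P)
  rw [← hXdef] at hX
  have htop : P ⊔ W = ⊤ := Subgroup.eq_top_of_le_card _ (by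
    have h1 := h.card_sup (P := P)
    rw [hT]
    have := Nat.mul_le_mul_left (Nat.card (P ⊔ W : Subgroup T)) hXd
    rw [← hXdef] at h1
    omega)
  have hEW : Nat.card (E ⊓ W : Subgroup T) ≤ 4 := by
    have h1 := card_dvd_of_le (inf_le_left : E ⊓ W ≤ E)
    rw [hP.card, show (8 : ℕ) = 2 ^ 3 from rfl] at h1
    obtain ⟨i, hi, e⟩ := (Nat.dvd_prime_pow Nat.prime_two).1 h1
    rw [e]
    rcases Nat.lt_or_ge i 3 with h3 | h3
    · exact Nat.pow_le_pow_right two_pos (show i ≤ 2 by omega)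
    · exfalso
      have he : E ⊓ W = E := Subgroup.eq_of_le_of_card_ge inf_le_left (by rw [e, hP.card, show i = 3 by omega]; norm_num)
      exact hdW (he.ge hdE).2
  -- an element of `P` moving the second centre outside the cosets of `1` and `d`
  obtain ⟨g2, g3, a, b, c, e3⟩ := h.exists_gens
  obtain ⟨z, -, hz, hz0⟩ := exists_step h.pgroup (N := ⊤) 0 (h.ne_top (by omega))
  have hz1 : z ≠ 1 := fun e => hz0 (e ▸ one_mem _)
  have ha3 : g2 ∈ ucs T 3 := Subgroup.upperCentralSeries_mono T (by omega : 2 ≤ 3) a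
  obtain ⟨y, hy, hyd, hyg⟩ : ∃ y ∈ P, (y : T ⧸ W) ≠ d ∧ y * g2 ≠ g2 * y := by
    have key : ∀ (t w : T), w ∈ W → t * g2 * t⁻¹ = z * g2 → t * w * g2 ≠ g2 * (t * w) := by
      intro t w hw ht e
      rw [← mul_inv_eq_iff_eq_mul, show t * w * g2 * (t * w)⁻¹ = t * (w * g2 * w⁻¹) * t⁻¹ by group,
        h.fix_W hw ha3, ht] at e
      exact hz1 (mul_eq_right.1 e)
    obtain ⟨t, ht⟩ := h.exists_act a b c e3 hz (one_mem _)
    obtain ⟨t', ht'⟩ := h.exists_act a b c e3 hz (Subgroup.upperCentralSeries_mono T (by omega : 1 ≤ 2) hz)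
    obtain ⟨p, hp, w, hw, hpw⟩ := h.exists_rep htop t
    obtain ⟨p', hp', w', hw', hpw'⟩ := h.exists_rep htop t'
    by_cases hd1 : (p : T ⧸ W) = d
    · refine ⟨p', hp', fun e => ?_, hpw' ▸ key _ _ hw' ht'.1⟩
      obtain ⟨v, hv, hpv⟩ : ∃ v ∈ W, p' = p * v := ⟨p⁻¹ * p', QuotientGroup.eq.1 (hd1.trans e.symm), by group⟩
      have h1 : p * g3 * p⁻¹ = g3 := by
        rw [hpw, show t * w * g3 * (t * w)⁻¹ = t * (w * g3 * w⁻¹) * t⁻¹ by group, h.fix_W hw c, ht.2, one_mul]
      have h2 : p' * g3 * p'⁻¹ = z * g3 := by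
        rw [hpw', show t' * w' * g3 * (t' * w')⁻¹ = t' * (w' * g3 * w'⁻¹) * t'⁻¹ by group, h.fix_W hw' c, ht'.2]
      rw [hpv, show p * v * g3 * (p * v)⁻¹ = p * (v * g3 * v⁻¹) * p⁻¹ by group, h.fix_W hv c, h1] at h2
      exact hz1 (mul_eq_right.1 h2.symm)
    · exact ⟨p, hp, hd1, hpw ▸ key _ _ hw ht.1⟩
  set H := zpowers d ⊔ zpowers y ⊔ W with hHdef
  have hdH : d ∈ H := mem_sup_left (mem_sup_left (mem_zpowers d))
  have hyH : y ∈ H := mem_sup_left (mem_sup_right (mem_zpowers y))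
  have hyW : y ∉ W := fun hm => hyg (by rw [← mul_inv_eq_iff_eq_mul]; exact h.fix_W hm ha3)
  have hH2 : H.index ≤ 2 := by
    by_contra hlt
    push Not at hlt
    have hi := h.index_le_four (H := H) le_sup_right fun hle => hdW (hle hdH)
    have h1 := H.card_mul_index
    rw [hT] at h1
    have hcH : Nat.card H ≤ 2 * Nat.card W := by
      rw [hW]
      interval_cases hx : H.index <;> omega
    have h2 := (W.subgroupOf H).card_mul_index
    rw [Nat.card_congr (subgroupOfEquivOfLe (le_sup_right : W ≤ H)).toEquiv] at h2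
    have h3 : (W.subgroupOf H).index ≤ 2 := by
      refine Nat.le_of_mul_le_mul_left ?_ (Nat.card_pos (α := W))
      rw [h2, mul_comm]
      exact hcH
    have hinj : Function.Injective (![((1 : H) : H ⧸ W.subgroupOf H), ((⟨d, hdH⟩ : H) : H ⧸ W.subgroupOf H),
        ((⟨y, hyH⟩ : H) : H ⧸ W.subgroupOf H)] : Fin 3 → H ⧸ W.subgroupOf H) := by
      have n1 : d⁻¹ ∉ W := fun hm => hdW (inv_mem_iff.1 hm)
      have n2 : y⁻¹ ∉ W := fun hm => hyW (inv_mem_iff.1 hm)
      have n3 : d⁻¹ * y ∉ W := fun hm => hyd (QuotientGroup.eq.2 hm).symm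
      have n4 : y⁻¹ * d ∉ W := fun hm => hyd (QuotientGroup.eq.2 hm)
      intro i j e
      fin_cases i <;> fin_cases j <;>
        first
        | rfl
        | exact absurd (mem_subgroupOf.1 (QuotientGroup.eq.1 e)) (by simpa using hdW)
        | exact absurd (mem_subgroupOf.1 (QuotientGroup.eq.1 e)) (by simpa using hyW)
        | exact absurd (mem_subgroupOf.1 (QuotientGroup.eq.1 e)) n1
        | exact absurd (mem_subgroupOf.1 (QuotientGroup.eq.1 e)) n2
        | exact absurd (mem_subgroupOf.1 (QuotientGroup.eq.1 e)) n3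
        | exact absurd (mem_subgroupOf.1 (QuotientGroup.eq.1 e)) n4
        | (exfalso; revert e; simp [QuotientGroup.eq, QuotientGroup.eq_one_iff, mem_subgroupOf, eq_comm, *])
    have h4 := Nat.card_le_card_of_injective _ hinj
    rw [Nat.card_fin] at h4
    exact absurd (h4.trans h3) (by norm_num)
  have hC : Nat.card (centralizer (H : Set T) ⊓ ucs T 3 : Subgroup T) ≤ 2 := by
    set C := centralizer (H : Set T) ⊓ ucs T 3
    have hle : C ≤ ucs T 2 := fun x hx => by
      by_contra hx2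
      have h1 := h.card_stab_le hx.2 hx2 (H := H) fun t ht => mem_centralizer_iff.1 hx.1 t ht
      have h2 := H.card_mul_index
      have := Nat.mul_le_mul h1 hH2
      rw [h2, hT, hW] at this
      omega
    have hg : g2 ∉ C := fun hg => hyg (mem_centralizer_iff.1 hg.1 y hyH)
    have h1 := card_dvd_of_le hle
    rw [h.card_ucs (i := 2) (by omega)] at h1
    obtain ⟨i, hi, e⟩ := (Nat.dvd_prime_pow Nat.prime_two).1 h1
    rw [e]
    rcases Nat.lt_or_ge i 2 with h2 | h2
    · exact (Nat.pow_le_pow_right two_pos (show i ≤ 1 by omega)).trans (by norm_num)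
    · exact absurd ((Subgroup.eq_of_le_of_card_ge hle (by
        rw [e, h.card_ucs (i := 2) (by omega), show i = 2 by omega])).ge a) hg
  -- commutators with `y`
  let f : X →* ↥(E ⊓ W) :=
    MonoidHom.mk' (fun x => ⟨⁅y, (x : T)⁆, hP.comm y hy x x.2.1, by
      rw [commutatorElement_def]; exact W.mul_mem (h.W_normal.conj_mem _ x.2.2 y) (W.inv_mem x.2.2)⟩) fun x x' => Subtype.ext (by
        show ⁅y, (x : T) * x'⁆ = ⁅y, (x : T)⁆ * ⁅y, (x' : T)⁆
        calc ⁅y, (x : T) * x'⁆ = ⁅y, (x : T)⁆ * ((x : T) * ⁅y, (x' : T)⁆ * (x : T)⁻¹) := by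
              simp only [commutatorElement_def]; group
          _ = _ := by rw [← hP.cent _ (hP.comm y hy x' x'.2.1) x x.2.1, mul_inv_cancel_right])
  set K := (f.ker).map X.subtype with hK
  have hKX : K ≤ X := map_subtype_le _
  have hKy : ∀ x ∈ K, Commute y x := by
    rintro _ ⟨x, hx, rfl⟩
    exact commutatorElement_eq_one_iff_mul_comm.1 (congrArg Subtype.val hx)
  have h6 : Nat.card K ≤ 2 ^ 2 * 2 := by
    refine (h.card_fixed_le (H := H) (hKX.trans inf_le_right) (fun x hx => sup_le (sup_le ?_ ?_)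
      (h.W_le_modCent (hKX hx).2)) hH2).trans (Nat.mul_le_mul_left _ ((card_le_of_le ?_).trans hC))
    · exact zpowers_le.2 (show ⁅d, x⁆ ∈ phi W by
        rw [commutatorElement_eq_one_iff_mul_comm.2 (hP.cent d hdE x (hKX hx).1)]; exact one_mem _)
    · exact zpowers_le.2 (show ⁅y, x⁆ ∈ phi W by
        rw [commutatorElement_eq_one_iff_mul_comm.2 (hKy x hx).eq]; exact one_mem _)
    intro x hx
    refine ⟨?_, h.phi_eq ▸ hx.2⟩
    have hle : H ≤ centralizer ({x} : Set T) := sup_le (sup_le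
      (zpowers_le.2 (mem_centralizer_singleton_iff.2 (hP.cent d hdE x (hKX hx.1).1)))
      (zpowers_le.2 (mem_centralizer_singleton_iff.2 (hKy x hx.1).eq)))
      fun w hw => mem_centralizer_singleton_iff.2 (h.phi_comm (h.phi_eq ▸ hx.2) hw).symm
    exact mem_centralizer_iff.2 fun t ht => mem_centralizer_singleton_iff.1 (hle ht)
  rw [hK, card_map_of_injective X.subtype_injective] at h6
  have h4 := f.ker.card_mul_index
  rw [index_ker] at h4
  have := Nat.mul_le_mul h6 ((Subgroup.card_le_card_group f.range).trans hEW)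
  omega

/-- A subgroup of order at least `2 ^ 10` lies in `W`. -/
theorem le_W (hcard : 2 ^ 10 ≤ Nat.card P) : P ≤ W := by
  haveI := h.W_normal
  haveI := h.phi_normal
  by_contra hno
  have hEW := h.central_le hP (by omega)
  obtain ⟨hT, hidx, hW, hphi⟩ := h.counts
  have hX := h.card_inter (P := P)
  set X := P ⊓ W with hXdef
  set E₁ := E ⊓ ucs T 3 with hE₁
  obtain ⟨e, heE, heZ⟩ : ∃ e ∈ E₁, e ∉ ucs T 2 := by
    by_contra hall
    push Not at hall
    have hS : X ⊔ phi W ≤ W := sup_le inf_le_right h.phi_le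
    have hcS := Grp.card_sup_mul_card_inf_normal (H := X) (N := phi W)
    rw [hphi] at hcS
    by_cases hbig : 2 ^ 8 ≤ Nat.card (X ⊔ phi W : Subgroup T)
    · obtain ⟨p, hp, hpp⟩ := h.no_flat hS le_sup_right (by
        show ((X ⊔ phi W).subgroupOf W).index ≤ 8
        have h2 := ((X ⊔ phi W).subgroupOf W).card_mul_index
        rw [Nat.card_congr (subgroupOfEquivOfLe hS).toEquiv, hW] at h2
        have := Nat.mul_le_mul_right ((X ⊔ phi W).subgroupOf W).index hbig
        omega)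
      obtain ⟨x, hx, z, hz, rfl⟩ := mem_sup_of_normal_right.1 hp
      refine hpp ?_
      have hz' : z ∈ ucs T 3 := h.phi_eq ▸ hz
      rw [show x * z * (x * z) = x * (z * x) * z by group, h.phi_comm hz' hx.2,
        show x * (x * z) * z = x * x * (z * z) by group, h.z_sq hz', mul_one]
      exact hall _ ⟨hP.sq x hx.1, h.phi_eq ▸ h.sq_mem hx.2⟩
    -- `X` has order `2 ^ 7` and contains the third centre
    have hX7 : 2 ^ 7 ≤ Nat.card X := by omega
    have hi8 : Nat.card (X ⊓ phi W : Subgroup T) = 8 := by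
      have hd := (card_dvd_of_le (inf_le_right : X ⊓ phi W ≤ phi W)).trans hphi.dvd
      have := Nat.le_of_dvd (by norm_num) hd
      interval_cases hx : Nat.card (X ⊓ phi W : Subgroup T) <;> omega
    have hphiX : phi W ≤ X := by
      have := Subgroup.eq_of_le_of_card_ge (inf_le_right : X ⊓ phi W ≤ phi W) (by omega)
      exact this ▸ inf_le_left
    have htop : P ⊔ W = ⊤ := Subgroup.eq_top_of_le_card _ (by
      have h1 := h.card_sup (P := P)
      rw [sup_eq_left.2 hphiX] at hcS hbig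
      rw [← hXdef] at h1
      rw [hT]
      have := Nat.mul_le_mul_left (Nat.card (P ⊔ W : Subgroup T)) (show Nat.card X ≤ 2 ^ 7 by
        have hd : Nat.card X ∣ 2 ^ 11 := hW ▸ card_dvd_of_le (inf_le_right : X ≤ W)
        obtain ⟨i, -, hi⟩ := (Nat.dvd_prime_pow Nat.prime_two).1 hd
        rw [hi] at hbig ⊢
        refine Nat.pow_le_pow_right two_pos ?_
        by_contra hc
        exact hbig (Nat.pow_le_pow_right two_pos (by omega)))
      omega)
    obtain ⟨g2, g3, a, b, c, d⟩ := h.exists_gens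
    obtain ⟨z, -, hz, hz0⟩ := exists_step h.pgroup (N := ⊤) 0 (h.ne_top (by omega))
    obtain ⟨t, ht⟩ := h.exists_act a b c d (one_mem _) a
    obtain ⟨p, hp, w, hw, hpw⟩ := h.exists_rep htop t
    have hg3X : g3 ∈ X := hphiX (h.phi_eq.symm ▸ c)
    have hmem : g2 ∈ E := by
      have h5 := hP.comm p hp g3 hg3X.1
      rwa [commutatorElement_def, hpw, show t * w * g3 * (t * w)⁻¹ = t * (w * g3 * w⁻¹) * t⁻¹ by group,
        h.fix_W hw c, ht.2, mul_inv_cancel_right] at h5
    obtain ⟨t', ht'⟩ := h.exists_act a b c d hz (one_mem _)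
    obtain ⟨p', hp', w', hw', hpw'⟩ := h.exists_rep htop t'
    have h6 := mul_inv_eq_iff_eq_mul.2 (hP.cent g2 hmem p' hp').symm
    rw [hpw', show t' * w' * g2 * (t' * w')⁻¹ = t' * (w' * g2 * w'⁻¹) * t'⁻¹ by group,
      h.fix_W hw' (Subgroup.upperCentralSeries_mono T (by omega : 2 ≤ 3) a), ht'.1] at h6
    exact hz0 (by rw [mul_eq_right.1 h6]; exact one_mem _)
  -- all of `P` fixes `e`
  have hHc := h.card_stab_le heE.2 heZ (H := P ⊔ W) fun t ht => by
    obtain ⟨p, hp, w, hw, rfl⟩ := mem_sup_of_normal_right.1 ht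
    rw [mul_assoc, ← h.phi_comm heE.2 hw, ← mul_assoc, ← hP.cent e heE.1 p hp, mul_assoc]
  have hX9 : 2 ^ 9 ≤ Nat.card X := by
    have h1 := h.card_sup (P := P)
    rw [← hXdef] at h1
    have := Nat.mul_le_mul_right (Nat.card X) hHc
    rw [h1, hW] at this
    omega
  obtain ⟨y, hy, hyW⟩ := SetLike.not_le_iff_exists.1 hno
  set H' := zpowers y ⊔ W with hH'
  haveI : (E₁.subgroupOf E).Normal := ⟨fun n hn g => by
    rwa [show g * n * g⁻¹ = n from Subtype.ext (mul_inv_eq_iff_eq_mul.2 (hP.cent g g.2 n (hP.le n.2)))]⟩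
  let f : X →* ↥E ⧸ (E₁.subgroupOf E) :=
    MonoidHom.mk' (fun x => ((⟨⁅y, (x : T)⁆, hP.comm y hy x x.2.1⟩ : E) : E ⧸ E₁.subgroupOf E)) fun x x' => by
      rw [← QuotientGroup.mk_mul]
      congr 1
      refine Subtype.ext ?_
      show ⁅y, (x : T) * x'⁆ = ⁅y, (x : T)⁆ * ⁅y, (x' : T)⁆
      calc ⁅y, (x : T) * x'⁆ = ⁅y, (x : T)⁆ * ((x : T) * ⁅y, (x' : T)⁆ * (x : T)⁻¹) := by
            simp only [commutatorElement_def]; group
        _ = _ := by rw [← hP.cent _ (hP.comm y hy x' x'.2.1) x x.2.1, mul_inv_cancel_right]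
  set K := (f.ker).map X.subtype with hK
  have hKX : K ≤ X := map_subtype_le _
  have hK16 : Nat.card K ≤ 2 ^ 4 * Nat.card (X ⊓ phi W : Subgroup T) := by
    refine (h.card_fixed_le (H := H') (hKX.trans inf_le_right) (fun x hx => sup_le (zpowers_le.2 ?_)
      (h.W_le_modCent (hKX hx).2)) (h.index_le_four le_sup_right fun hle =>
        hyW (hle (mem_sup_left (mem_zpowers y))))).trans
      (Nat.mul_le_mul_left _ (card_le_of_le (inf_le_inf_right _ hKX)))
    obtain ⟨x', hx', rfl⟩ := hx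
    have h2 := mem_subgroupOf.1 ((QuotientGroup.eq_one_iff _).1 hx')
    show ⁅y, (x' : T)⁆ ∈ phi W
    exact h.phi_eq.symm ▸ h2.2
  rw [hK, card_map_of_injective X.subtype_injective] at hK16
  have h4 := f.ker.card_mul_index
  have h5 : f.ker.index * Nat.card E₁ ≤ 8 := by
    rw [index_ker]
    have h6 := (E₁.subgroupOf E).card_mul_index
    rw [Nat.card_congr (subgroupOfEquivOfLe (inf_le_left : E₁ ≤ E)).toEquiv, hP.card] at h6
    refine le_trans (Nat.mul_le_mul_right _ (Subgroup.card_le_card_group _)) (le_of_eq ?_)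
    rw [mul_comm]
    exact h6
  have hE2 : 2 ≤ Nat.card E₁ := by
    by_contra hc
    have : E₁ = ⊥ := Subgroup.eq_bot_of_card_le _ (by omega)
    rw [this, mem_bot] at heE
    exact heZ (heE ▸ one_mem _)
  -- so the third centre lies in `X`
  have hXD : Nat.card (X ⊓ phi W : Subgroup T) = 8 ∧ Nat.card E₁ = 2 := by
    have hle : Nat.card (X ⊓ phi W : Subgroup T) ≤ 8 := (card_le_of_le inf_le_right).trans hphi.le
    generalize Nat.card (X ⊓ phi W : Subgroup T) = m at *
    generalize Nat.card E₁ = n at *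
    generalize f.ker.index = i at *
    generalize Nat.card f.ker = k at *
    have h7 : 512 * n ≤ 16 * m * 8 := by
      calc 512 * n ≤ k * i * n := Nat.mul_le_mul_right _ (by omega)
        _ = k * (i * n) := mul_assoc _ _ _
        _ ≤ 16 * m * 8 := Nat.mul_le_mul hK16 h5
    omega
  have hDX : phi W ≤ X := by
    have := Subgroup.eq_of_le_of_card_ge (inf_le_right : X ⊓ phi W ≤ phi W) (by rw [hXD.1, hphi])
    exact this ▸ inf_le_left
  refine hyW ?_
  rw [h.cent, mem_centralizer_iff]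
  intro g hg
  have hgX := hDX (h.phi_eq.symm ▸ hg)
  have hmE : ⁅y, g⁆ ∈ E₁ := by
    refine ⟨hP.comm y hy g hgX.1, ?_⟩
    rw [commutatorElement_def]
    exact Subgroup.upperCentralSeries_mono T (by omega : 2 ≤ 3) (h.comm_one hg y)
  have hne : ⁅y, g⁆ ≠ e := fun he => heZ (he ▸ by rw [commutatorElement_def]; exact h.comm_one hg y)
  obtain ⟨x₀, hx₀⟩ := (Nat.card_eq_two_iff' (1 : E₁)).1 hXD.2
  by_contra hc
  have hne1 : (⟨_, hmE⟩ : E₁) ≠ 1 := fun e1 => hc
    (commutatorElement_eq_one_iff_mul_comm.1 (congrArg Subtype.val e1)).symm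
  have he1 : (⟨e, heE⟩ : E₁) ≠ 1 := fun e1 => heZ (by
    rw [show e = 1 from congrArg Subtype.val e1]; exact one_mem _)
  exact hne (congrArg Subtype.val ((hx₀.2 _ hne1).trans (hx₀.2 _ he1).symm))

end Hyp

end Cfsg.Agent.Fus.RudType
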