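import Cfsg.Agent.Lib.Grp.SqClass.PermBound

/-!
# Automorphism groups of small elementary abelian groups

An elementary abelian subgroup of odd order of `GL(8, 2)` has an automorphism group of order prime to 168 unless it
has order 49, and two commuting involutory automorphisms of a group of order 49 generate the inversion.
-/

set_option autoImplicit false
set_option linter.unusedSectionVars false
set_option linter.style.haveILetI false

namespace Cfsg.Agent.Fus.RudTransfer

open Subgroup

/-- The order of `GL(8, 2)`. -/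
def gl8 : ℕ := 2 ^ 28 * 3 ^ 5 * 5 ^ 2 * 7 ^ 2 * 17 * 31 * 127

theorem gl8_eq : (∏ i : Fin 8, (2 ^ 8 - 2 ^ (i : ℕ))) = gl8 := by
  simp [Fin.prod_univ_succ, gl8]

theorem rank_bound {p r : ℕ} (hp : p.Prime) (hp2 : p ≠ 2) (hr : 1 ≤ r) (hdvd : p ^ r ∣ gl8)
    (h168 : 168 ∣ ∏ i : Fin r, (p ^ r - p ^ (i : ℕ))) : p = 7 ∧ r = 2 := by
  have hpd : p ∣ gl8 := (dvd_pow_self p (by omega)).trans hdvd
  have hmem : p = 3 ∨ p = 5 ∨ p = 7 ∨ p = 17 ∨ p = 31 ∨ p = 127 := by
    have key : ∀ {q k : ℕ}, q.Prime → p ∣ q ^ k → p = q := fun hq hd =>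
      (Nat.prime_dvd_prime_iff_eq hp hq).1 (hp.dvd_of_dvd_pow hd)
    unfold gl8 at hpd
    rcases hp.dvd_mul.1 hpd with h | h
    · rcases hp.dvd_mul.1 h with h | h
      · rcases hp.dvd_mul.1 h with h | h
        · rcases hp.dvd_mul.1 h with h | h
          · rcases hp.dvd_mul.1 h with h | h
            · rcases hp.dvd_mul.1 h with h | h
              · exact absurd (key Nat.prime_two h) hp2
              · exact Or.inl (key Nat.prime_three h)
            · exact Or.inr (Or.inl (key Nat.prime_five h))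
          · exact Or.inr (Or.inr (Or.inl (key (by norm_num) h)))
        · exact Or.inr (Or.inr (Or.inr (Or.inl ((Nat.prime_dvd_prime_iff_eq hp (by norm_num)).1 h))))
      · exact Or.inr (Or.inr (Or.inr (Or.inr (Or.inl ((Nat.prime_dvd_prime_iff_eq hp (by norm_num)).1 h)))))
    · exact Or.inr (Or.inr (Or.inr (Or.inr (Or.inr ((Nat.prime_dvd_prime_iff_eq hp (by norm_num)).1 h)))))
  have hbound : ∀ R, ¬ p ^ (R + 1) ∣ gl8 → r ≤ R := fun R hR => by
    by_contra hc
    exact hR ((pow_dvd_pow p (by omega)).trans hdvd)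
  rcases hmem with rfl | rfl | rfl | rfl | rfl | rfl
  · have := hbound 5 (by norm_num [gl8])
    interval_cases r <;> simp [Fin.prod_univ_succ] at h168 <;> omega
  · have := hbound 2 (by norm_num [gl8])
    interval_cases r <;> simp [Fin.prod_univ_succ] at h168 <;> omega
  · have := hbound 2 (by norm_num [gl8])
    interval_cases r <;> simp [Fin.prod_univ_succ] at h168 ⊢ <;> omega
  · have := hbound 1 (by norm_num [gl8])
    interval_cases r <;> simp [Fin.prod_univ_succ] at h168 <;> omega
  · have := hbound 1 (by norm_num [gl8])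
    interval_cases r <;> simp [Fin.prod_univ_succ] at h168 <;> omega
  · have := hbound 1 (by norm_num [gl8])
    interval_cases r <;> simp [Fin.prod_univ_succ] at h168 <;> omega

section inversion

variable {B : Type*} [CommGroup B] [Finite B]

/-- The elements sent to themselves, respectively to their inverses. -/
def eig (α : MulAut B) (s : Bool) : Subgroup B where
  carrier := {x | α x = bif s then x else x⁻¹}
  one_mem' := by cases s <;> simp
  mul_mem' := fun {x y} hx hy => by
    cases s <;> simp_all [mul_comm]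
  inv_mem' := fun {x} hx => by
    cases s <;> simp_all

/-- Two commuting involutory automorphisms of a group of order 49. -/
theorem exists_inversion (hexp : ∀ x : B, x ^ 7 = 1) (hcard : Nat.card B = 49) {α β : MulAut B}
    (hα : α * α = 1) (hα1 : α ≠ 1) (hβ : β * β = 1) (hβ1 : β ≠ 1) (hne : α ≠ β) (hc : α * β = β * α) :
    ∃ γ : MulAut B, (γ = α ∨ γ = β ∨ γ = α * β) ∧ ∀ x : B, γ x = x⁻¹ := by
  have hαα : ∀ x, α (α x) = x := fun x => DFunLike.congr_fun hα x
  have hββ : ∀ x, β (β x) = x := fun x => DFunLike.congr_fun hβ x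
  have hαβ : ∀ x, α (β x) = β (α x) := fun x => DFunLike.congr_fun hc x
  have half : ∀ x : B, x = (x * α x) ^ 4 * (x * (α x)⁻¹) ^ 4 := fun x => by
    rw [← mul_pow, show x * α x * (x * (α x)⁻¹) = x * x by rw [mul_mul_mul_comm, mul_inv_cancel, mul_one],
      ← pow_two, ← pow_mul, show 2 * 4 = 7 + 1 from rfl, pow_succ, hexp, one_mul]
  have hp : ∀ x, x * α x ∈ eig α true := fun x => by
    show α (x * α x) = x * α x
    rw [map_mul, hαα, mul_comm]
  have hm : ∀ x, x * (α x)⁻¹ ∈ eig α false := fun x => by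
    show α (x * (α x)⁻¹) = (x * (α x)⁻¹)⁻¹
    rw [map_mul, map_inv, hαα, mul_inv_rev, inv_inv]
  by_cases hp0 : eig α true = ⊥
  · refine ⟨α, Or.inl rfl, fun x => ?_⟩
    have h1 := hp x
    rw [hp0, mem_bot] at h1
    exact eq_inv_of_mul_eq_one_right h1
  by_cases hm0 : eig α false = ⊥
  · refine absurd (MulEquiv.ext fun x => ?_) hα1
    have h1 := hm x
    rw [hm0, mem_bot, mul_inv_eq_one] at h1
    exact h1.symm
  have h49 : ∀ S : Subgroup B, S ≠ ⊥ → S ≠ ⊤ → Nat.card S = 7 := fun S h1 h2 => by
    have h3 := Subgroup.card_subgroup_dvd_card S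
    rw [hcard, show (49 : ℕ) = 7 ^ 2 from rfl] at h3
    obtain ⟨i, hi, e⟩ := (Nat.dvd_prime_pow (by norm_num)).1 h3
    interval_cases i
    · exact absurd (Subgroup.eq_bot_of_card_eq S (by simpa using e)) h1
    · simpa using e
    · exact absurd (Subgroup.eq_top_of_card_eq S (by rw [e, hcard]; norm_num)) h2
  have hsep : ∀ x, x ∈ eig α true → x ∈ eig α false → x = 1 := fun x h1 h2 => by
    have h3 : x * x = 1 := mul_eq_one_iff_eq_inv.2 ((show α x = x from h1).symm.trans h2)
    have h7 := hexp x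
    rwa [show 7 = 2 * 3 + 1 from rfl, pow_succ, pow_mul, pow_two, h3, one_pow, one_mul] at h7
  have hne_top : ∀ s, eig α s ≠ ⊤ := fun s e => by
    cases s
    · exact hp0 ((eq_bot_iff_forall _).2 fun x hx => hsep x hx (e ▸ mem_top x))
    · exact hm0 ((eq_bot_iff_forall _).2 fun x hx => hsep x (e ▸ mem_top x) hx)
  have hline : ∀ s : Bool, (∀ x ∈ eig α s, β x = x) ∨ ∀ x ∈ eig α s, β x = x⁻¹ := by
    intro s
    have hS : Nat.card (eig α s) = 7 := h49 _ (by cases s <;> assumption) (hne_top s)
    have hinv : ∀ x ∈ eig α s, β x ∈ eig α s := fun x hx => by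
      show α (β x) = _
      rw [hαβ, show α x = _ from hx]
      cases s <;> simp
    by_cases hy : ∃ x ∈ eig α s, x * β x ≠ 1
    · obtain ⟨x, hx, hne⟩ := hy
      left
      intro w hw
      have hgen : zpowers (x * β x) = eig α s := by
        refine Subgroup.eq_of_le_of_card_ge (zpowers_le.2 (mul_mem hx (hinv x hx))) ?_
        rw [hS, Nat.card_zpowers]
        haveI : Fact (Nat.Prime 7) := ⟨by norm_num⟩
        rw [orderOf_eq_prime (hexp _) hne]
      obtain ⟨n, rfl⟩ := mem_zpowers_iff.1 (hgen.ge hw)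
      rw [map_zpow, map_mul, hββ, mul_comm]
    · push Not at hy
      exact Or.inr fun x hx => eq_inv_of_mul_eq_one_right (hy x hx)
  have hext : ∀ f g : MulAut B, (∀ x, x ∈ eig α true → f x = g x) → (∀ x, x ∈ eig α false → f x = g x) →
      f = g := fun f g h1 h2 => MulEquiv.ext fun x => by
    rw [half x, map_mul, map_mul, h1 _ (pow_mem (hp x) 4), h2 _ (pow_mem (hm x) 4)]
  rcases hline true with h1 | h1 <;> rcases hline false with h2 | h2
  · exact absurd (hext β 1 h1 h2) hβ1
  · exact absurd (hext α β (fun x hx => (show α x = x from hx).trans (h1 x hx).symm)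
      fun x hx => (show α x = x⁻¹ from hx).trans (h2 x hx).symm) hne
  · refine ⟨α * β, Or.inr (Or.inr rfl), fun x => ?_⟩
    rw [show x⁻¹ = (α * β) x from ?_]
    have key := hext (α * β) (MulEquiv.inv B) (fun y hy => ?_) fun y hy => ?_
    · exact (DFunLike.congr_fun key x).symm
    · show α (β y) = y⁻¹
      rw [h1 y hy, map_inv, show α y = y from hy]
    · show α (β y) = y⁻¹
      rw [h2 y hy, show α y = y⁻¹ from hy]
  · refine ⟨β, Or.inr (Or.inl rfl), fun x => ?_⟩
    exact DFunLike.congr_fun (hext β (MulEquiv.inv B) h1 h2) x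

end inversion

end Cfsg.Agent.Fus.RudTransfer
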