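import Cfsg.Agent.Lib.Fus.RudTransfer.Action
import Cfsg.Agent.Lib.Fus.RudTransfer.Small

/-!
# The odd automorphisms of `W` centralising its derived group

When `N(W)` induces `GL(3, 2)` on the derived group, a Frattini argument gives an automorphism of odd order
commuting with a Sylow 2-subgroup; it then normalises the Sylow subgroup, so it is trivial.
-/

set_option autoImplicit false
set_option linter.unusedSectionVars false
set_option linter.style.haveILetI false

open scoped commutatorElement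

namespace Cfsg.Agent.Fus.RudTransfer

open Subgroup RudType

theorem card_G3 : Nat.card Gl.G3 = 168 := by
  rw [Matrix.card_GL_field, Fin.prod_univ_three, ZMod.card]
  rfl

theorem upper_card : ∀ R : Subgroup Gl.G3, Gl.HasUpper R → 8 ≤ Nat.card R := by
  intro R hR
  choose f hf using fun p : ZMod 2 × ZMod 2 × ZMod 2 => Gl.exists_enc (Gl.upper_det p.1 p.2.1 p.2.2)
  have hinj : Function.Injective fun p => (⟨f p, hR _ ⟨_, _, _, hf p⟩⟩ : R) := fun p q e => by
    have h1 := hf p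
    rw [show f p = f q from congrArg Subtype.val e, hf q] at h1
    simp [Gl.upper, Prod.ext_iff] at h1 ⊢
    tauto
  have := Nat.card_le_card_of_injective _ hinj
  simpa [Nat.card_eq_fintype_card] using this

variable {G : Type*} [Group G] [Finite G] {T : Sylow 2 G} {W : Subgroup ↥(T : Subgroup G)}

section

variable (h : RudType.Hyp W)
include h

/-- The automorphisms induced on `W` modulo its derived group. -/
theorem exists_psi [hD : ((dG T W).subgroupOf (wG T W)).Normal] :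
    ∃ Ψ : ↥(nG T W) →* MulAut (↥(wG T W) ⧸ (dG T W).subgroupOf (wG T W)),
      ∀ n : ↥(nG T W), Ψ n = 1 ↔ ∀ w ∈ wG T W, ⁅(n : G), w⁆ ∈ dG T W := by
  let c : ↥(nG T W) →* MulAut ↥(wG T W) := (wG T W).normalizerMonoidHom
  set Φ := (dG T W).subgroupOf (wG T W) with hΦ
  have hval : ∀ n (w : ↥(wG T W)), ((c n w : ↥(wG T W)) : G) = (n : G) * w * (n : G)⁻¹ := fun n w => rfl
  have hmap : ∀ n, Φ.map (c n : ↥(wG T W) →* ↥(wG T W)) = Φ := by
    intro n
    have h1 := mem_normalizer_iff.1 (nG_le_mG h n.2)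
    ext w
    constructor
    · rintro ⟨v, hv, rfl⟩
      exact mem_subgroupOf.2 ((h1 _).1 (mem_subgroupOf.1 hv))
    · intro hw
      refine ⟨(c n).symm w, mem_subgroupOf.2 ((h1 _).2 ?_), (c n).apply_symm_apply w⟩
      rw [← hval n, (c n).apply_symm_apply]
      exact mem_subgroupOf.1 hw
  refine ⟨MonoidHom.mk' (fun n => QuotientGroup.congr Φ Φ (c n) (hmap n)) fun n n' => ?_, fun n => ?_⟩
  · refine MulEquiv.ext fun q => ?_
    induction q using QuotientGroup.induction_on with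
    | _ w =>
      show ((c (n * n') w : ↥(wG T W)) : ↥(wG T W) ⧸ Φ) = ((c n (c n' w) : ↥(wG T W)) : ↥(wG T W) ⧸ Φ)
      rw [map_mul]
      rfl
  · constructor
    · intro hn w hw
      have h1 : ((c n ⟨w, hw⟩ : ↥(wG T W)) : ↥(wG T W) ⧸ Φ) = ((⟨w, hw⟩ : ↥(wG T W)) : ↥(wG T W) ⧸ Φ) :=
        DFunLike.congr_fun hn ((⟨w, hw⟩ : ↥(wG T W)) : ↥(wG T W) ⧸ Φ)
      have h2 := mem_subgroupOf.1 (QuotientGroup.eq_iff_div_mem.1 h1)
      rw [div_eq_mul_inv] at h2
      rw [commutatorElement_def]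
      exact h2
    · intro hn
      refine MulEquiv.ext fun q => ?_
      induction q using QuotientGroup.induction_on with
      | _ w =>
        show ((c n w : ↥(wG T W)) : ↥(wG T W) ⧸ Φ) = _
        refine (QuotientGroup.eq_iff_div_mem.2 (mem_subgroupOf.2 ?_))
        have h2 := hn w w.2
        rw [commutatorElement_def] at h2
        rw [div_eq_mul_inv]
        exact h2

/-- The divisor for subgroups of the automorphism group of `W` modulo its derived group. -/
theorem card_aut_quot [hD : ((dG T W).subgroupOf (wG T W)).Normal] :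
    Nat.card (MulAut (↥(wG T W) ⧸ (dG T W).subgroupOf (wG T W))) = gl8 := by
  haveI : Fact (Nat.Prime 2) := ⟨Nat.prime_two⟩
  set Φ := (dG T W).subgroupOf (wG T W)
  obtain ⟨k, hk, e⟩ := SqClass.card_mulAut_elem (r := 2) (M := ↥(wG T W) ⧸ Φ) (fun x y => by
    induction x using QuotientGroup.induction_on with
    | _ x =>
      induction y using QuotientGroup.induction_on with
      | _ y =>
        refine QuotientGroup.eq.2 (mem_subgroupOf.2 ?_)
        show ((x : G) * y)⁻¹ * ((y : G) * x) ∈ dG T W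
        rw [show ((x : G) * y)⁻¹ * ((y : G) * x) = ⁅(y : G)⁻¹, (x : G)⁻¹⁆ by rw [commutatorElement_def]; group]
        exact wG_comm h (inv_mem y.2) (inv_mem x.2)) (fun x => by
    induction x using QuotientGroup.induction_on with
    | _ x =>
      rw [← QuotientGroup.mk_pow, QuotientGroup.eq_one_iff, mem_subgroupOf, pow_two]
      exact wG_sq h x.2)
  have h1 := Φ.card_eq_card_quotient_mul_card_subgroup
  rw [card_wG h, Nat.card_congr (subgroupOfEquivOfLe (dG_le h)).toEquiv, card_dG h, hk] at h1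
  obtain rfl : k = 8 := Nat.pow_right_injective le_rfl (show 2 ^ k = 2 ^ 8 by norm_num at h1 ⊢; omega)
  rw [e, gl8_eq]

/-- Elements trivial modulo the derived group centralise it. -/
theorem trivial_le_cent {n : G} (hn : ∀ w ∈ wG T W, ⁅n, w⁆ ∈ dG T W) : n ∈ centralizer (dG T W : Set G) := by
  have hle : ⁅wG T W, wG T W⁆ ≤ centralizer ({n} : Set G) := by
    rw [commutator_le]
    intro a ha b hb
    rw [mem_centralizer_singleton_iff]
    have hd : ∀ w ∈ wG T W, n * w * n⁻¹ = ⁅n, w⁆ * w := fun w _ => by rw [commutatorElement_def]; group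
    have h1 : n * ⁅a, b⁆ * n⁻¹ = ⁅⁅n, a⁆ * a, ⁅n, b⁆ * b⁆ := by
      rw [← hd a ha, ← hd b hb]
      simp only [commutatorElement_def]
      group
    have hda := hn a ha
    have hdb := hn b hb
    have key : ∀ d e : G, d ∈ dG T W → e ∈ dG T W → ⁅d * a, e * b⁆ = ⁅a, b⁆ := by
      intro d e hd' he'
      have ca : ∀ x ∈ wG T W, Commute d x := fun x hx => dG_cent h hd' hx
      have cb : ∀ x ∈ wG T W, Commute e x := fun x hx => dG_cent h he' hx
      rw [commutatorElement_def, commutatorElement_def,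
        show d * a * (e * b) * (d * a)⁻¹ * (e * b)⁻¹ = d * (a * e) * b * a⁻¹ * d⁻¹ * b⁻¹ * e⁻¹ by group,
        ← (cb a ha).eq, show d * (e * a) * b * a⁻¹ * d⁻¹ * b⁻¹ * e⁻¹ = d * e * (a * b * a⁻¹ * (d⁻¹ * b⁻¹)) * e⁻¹ by group,
        ((ca b hb).inv_inv).eq,
        show a * b * a⁻¹ * (b⁻¹ * d⁻¹) = a * b * a⁻¹ * b⁻¹ * d⁻¹ by group]
      set c := a * b * a⁻¹ * b⁻¹
      have hc : c ∈ wG T W := mul_mem (mul_mem (mul_mem ha hb) (inv_mem ha)) (inv_mem hb)
      have hde : d * e * c = c * (d * e) := ((ca c hc).mul_left (cb c hc)).eq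
      rw [← mul_assoc (d * e), hde, show c * (d * e) * d⁻¹ * e⁻¹ = c * (d * (e * d⁻¹) * e⁻¹) by group,
        ((cb d (dG_le h hd')).inv_right).eq]
      group
    rw [key _ _ hda hdb] at h1
    exact (mul_inv_eq_iff_eq_mul.1 h1).symm
  rw [← dG_eq_commutator h] at hle
  exact mem_centralizer_iff.2 fun d hd => mem_centralizer_singleton_iff.1 (hle hd)

/-- An element normalising the Sylow subgroup acts on `W` like an element of it. -/
theorem normalizer_split {n : G} (hn : n ∈ normalizer ((T : Subgroup G) : Set G)) :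
    ∃ t ∈ (T : Subgroup G), ∀ w ∈ (T : Subgroup G), (t⁻¹ * n) * w = w * (t⁻¹ * n) := by
  haveI : Fact (Nat.Prime 2) := ⟨Nat.prime_two⟩
  obtain ⟨S', H, hH, hc⟩ := normalizer_complement T fun α n hn hα => h.aut_trivial hn hα
  haveI := hH
  haveI hTn : ((T : Subgroup G).subgroupOf (normalizer ((T : Subgroup G) : Set G))).Normal := normal_in_normalizer
  set S := T.subtype (le_normalizer (H := (T : Subgroup G))) with hS
  haveI : (S : Subgroup ↥(normalizer ((T : Subgroup G) : Set G))).Normal := hTn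
  haveI := Sylow.unique_of_normal S hTn
  obtain rfl : S' = S := Subsingleton.elim _ _
  obtain ⟨⟨o, t⟩, e⟩ := hc.2 ⟨n, hn⟩
  have he : (o : ↥(normalizer ((T : Subgroup G) : Set G))) * t = ⟨n, hn⟩ := e
  have hcomm : ∀ s ∈ (S : Subgroup ↥(normalizer ((T : Subgroup G) : Set G))),
      (o : ↥(normalizer ((T : Subgroup G) : Set G))) * s = s * o := fun s hs =>
    (commute_of_normal_of_disjoint _ _ hH hTn hc.disjoint _ _ o.2 hs).eq
  refine ⟨((t : ↥(normalizer ((T : Subgroup G) : Set G))) : G), mem_subgroupOf.1 t.2, fun w hw => ?_⟩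
  have h1 : ((t : ↥(normalizer ((T : Subgroup G) : Set G))) : G)⁻¹ * n =
      ((o : ↥(normalizer ((T : Subgroup G) : Set G))) : G) := by
    have e1 := congrArg Subtype.val ((hcomm t t.2).symm.trans he)
    exact inv_mul_eq_iff_eq_mul.2 e1.symm
  rw [h1]
  exact congrArg Subtype.val (hcomm ⟨w, le_normalizer hw⟩ (mem_subgroupOf.2 hw))

/-- A Sylow subgroup of the image has order eight, and the part centralising the derived group is odd. -/
theorem image_cards {X : Type*} [Group X] [Finite X] (π : ↥(nG T W) →* X) (hπ : Function.Surjective π)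
    (σ' : X →* Gl.G3) (hσ : Function.Surjective (σ'.comp π))
    (hw : ∀ n : ↥(nG T W), (n : G) ∈ wG T W → π n = 1) :
    Nat.card X = Nat.card σ'.ker * 168 ∧ Odd (Nat.card σ'.ker) := by
  haveI : Fact (Nat.Prime 2) := ⟨Nat.prime_two⟩
  have hs : Function.Surjective σ' := fun y => by
    obtain ⟨n, rfl⟩ := hσ y
    exact ⟨π n, rfl⟩
  have h1 := σ'.ker.card_mul_index
  rw [index_ker, MonoidHom.range_eq_top.2 hs, card_top, card_G3] at h1
  refine ⟨h1.symm, ?_⟩
  have h2 := π.ker.card_mul_index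
  rw [index_ker, MonoidHom.range_eq_top.2 hπ, card_top, ← h1] at h2
  have h3 : 2 ^ 11 ∣ Nat.card π.ker := by
    rw [← card_wG h, ← Nat.card_congr (subgroupOfEquivOfLe ((wG_le h).trans (T_le_nG h))).toEquiv]
    exact card_dvd_of_le fun x hx => MonoidHom.mem_ker.2 (hw x (mem_subgroupOf.1 hx))
  obtain ⟨m, hm⟩ := h3
  refine Nat.not_even_iff_odd.1 fun hev => ?_
  obtain ⟨k, hk⟩ := hev
  set S := T.subtype (T_le_nG h)
  have h4 := (S : Subgroup ↥(nG T W)).card_mul_index
  rw [show Nat.card ↥(S : Subgroup ↥(nG T W)) = 2 ^ 14 from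
    (Nat.card_congr (subgroupOfEquivOfLe (T_le_nG h)).toEquiv).trans h.counts.1, ← h2, hm, hk] at h4
  refine S.not_dvd_index ⟨21 * m * k, ?_⟩
  refine Nat.eq_of_mul_eq_mul_left (show 0 < 2 ^ 14 by norm_num) (h4.trans ?_)
  ring

/-- An odd element of the image centralised by the Sylow subgroup is trivial. -/
theorem commuting_trivial {X : Type*} [Group X] [Finite X] (π : ↥(nG T W) →* X)
    (hker : ∀ n : ↥(nG T W), (n : G) ∈ centralizer ((T : Subgroup G) : Set G) → π n = 1)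
    {k : ↥(nG T W)} (hodd : Odd (orderOf (π k)))
    (hcomm : ∀ t : ↥(nG T W), (t : G) ∈ (T : Subgroup G) → π k * π t = π t * π k) : π k = 1 := by
  haveI : Fact (Nat.Prime 2) := ⟨Nat.prime_two⟩
  set TN := (T : Subgroup G).subgroupOf (nG T W) with hTN
  set H := (TN.map π).comap π with hH
  have hTH : TN ≤ H := le_comap_map _ _
  let S := T.subtype (T_le_nG h)
  let P : Sylow 2 ↥H := S.subtype hTH
  have hkT : ∀ t ∈ TN, k * t * k⁻¹ ∈ H := fun t ht => by
    show π (k * t * k⁻¹) ∈ TN.map π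
    rw [map_mul, map_mul, map_inv, hcomm t (mem_subgroupOf.1 ht), mul_inv_cancel_right]
    exact mem_map_of_mem π ht
  have hle : (TN.map (MulAut.conj k).toMonoidHom) ≤ H := by
    rintro _ ⟨t, ht, rfl⟩
    exact hkT t ht
  have hp : IsPGroup 2 ↥((TN.map (MulAut.conj k).toMonoidHom).subgroupOf H) := by
    refine IsPGroup.of_injective ((T.subtype (T_le_nG h)).isPGroup'.map (MulAut.conj k).toMonoidHom)
      (subgroupOfEquivOfLe hle).toMonoidHom (subgroupOfEquivOfLe hle).injective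
  obtain ⟨Q, hQ⟩ := hp.exists_le_sylow
  obtain ⟨g, hg⟩ := MulAction.exists_smul_eq ↥H Q P
  have hmem : ∀ t ∈ TN, ((g : ↥(nG T W)) * k) * t * ((g : ↥(nG T W)) * k)⁻¹ ∈ TN := fun t ht => by
    have h1 : (⟨k * t * k⁻¹, hkT t ht⟩ : ↥H) ∈ (Q : Subgroup ↥H) := hQ (mem_subgroupOf.2 ⟨t, ht, rfl⟩)
    have h2 : g * ⟨k * t * k⁻¹, hkT t ht⟩ * g⁻¹ ∈ ((g • Q : Sylow 2 ↥H) : Subgroup ↥H) :=
      Subgroup.smul_mem_pointwise_smul _ (MulAut.conj g) (Q : Subgroup ↥H) h1
    rw [hg] at h2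
    have h3 : (g : ↥(nG T W)) * (k * t * k⁻¹) * (g : ↥(nG T W))⁻¹ ∈ TN := mem_subgroupOf.1 h2
    rwa [show (g : ↥(nG T W)) * k * t * ((g : ↥(nG T W)) * k)⁻¹ =
      (g : ↥(nG T W)) * (k * t * k⁻¹) * (g : ↥(nG T W))⁻¹ by group]
  set n := (g : ↥(nG T W)) * k with hndef
  have hn : (n : G) ∈ normalizer ((T : Subgroup G) : Set G) := by
    have hmap : (T : Subgroup G).map (MulAut.conj (n : G)).toMonoidHom = (T : Subgroup G) := by
      refine Subgroup.eq_of_le_of_card_ge ?_ (card_map_of_injective (MulAut.conj (n : G)).injective).ge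
      rintro _ ⟨x, hx, rfl⟩
      exact mem_subgroupOf.1 (hmem ⟨x, T_le_nG h hx⟩ (mem_subgroupOf.2 hx))
    rw [mem_normalizer_iff]
    intro x
    constructor
    · intro hx
      rw [← hmap]
      exact ⟨x, hx, rfl⟩
    · intro hx
      rw [← hmap] at hx
      obtain ⟨y, hy, e⟩ := hx
      rwa [← (MulAut.conj (n : G)).injective e]
  obtain ⟨t, ht, hc⟩ := normalizer_split h hn
  have hπn : π n ∈ TN.map π := by
    refine ⟨⟨t, T_le_nG h ht⟩, mem_subgroupOf.2 ht, ?_⟩
    have h1 : π (⟨t, T_le_nG h ht⟩⁻¹ * n) = 1 :=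
      hker _ (mem_centralizer_iff.2 fun w hw => (hc w hw).symm)
    rw [map_mul, map_inv, inv_mul_eq_one] at h1
    exact h1
  have hπk : π k ∈ TN.map π := by
    have h1 : π (g : ↥(nG T W)) ∈ TN.map π := g.2
    have := mul_mem (inv_mem h1) hπn
    rwa [hndef, map_mul, inv_mul_cancel_left] at this
  obtain ⟨t', ht', e⟩ := hπk
  obtain ⟨j, hj⟩ := T.isPGroup' ⟨(t' : G), mem_subgroupOf.1 ht'⟩
  have ht2 : t' ^ 2 ^ j = 1 := Subtype.ext (by simpa using congrArg Subtype.val hj)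
  have hdvd : orderOf (π k) ∣ 2 ^ j := orderOf_dvd_of_pow_eq_one (by rw [← e, ← map_pow, ht2, map_one])
  obtain ⟨i, -, hi⟩ := (Nat.dvd_prime_pow Nat.prime_two).1 hdvd
  rcases Nat.eq_zero_or_pos i with rfl | hpos
  · exact orderOf_eq_one_iff.1 hi
  · exact absurd (hi ▸ hodd) (Nat.not_odd_iff_even.2 ((Nat.even_pow).2 ⟨even_two, hpos.ne'⟩))

end

/-- The elements of order dividing `p` of the centre of `P`. -/
def zOne {X : Type*} [Group X] (P : Subgroup X) (p : ℕ) : Subgroup X where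
  carrier := {x | x ∈ P ∧ (∀ y ∈ P, x * y = y * x) ∧ x ^ p = 1}
  one_mem' := ⟨one_mem _, fun y _ => by rw [one_mul, mul_one], one_pow _⟩
  mul_mem' := fun {x y} hx hy => ⟨mul_mem hx.1 hy.1,
    fun z hz => ((show Commute x z from hx.2.1 z hz).mul_left (show Commute y z from hy.2.1 z hz)).eq,
    by rw [(show Commute x y from hx.2.1 y hy.1).mul_pow, hx.2.2, hy.2.2, one_mul]⟩
  inv_mem' := fun {x} hx => ⟨inv_mem hx.1, fun z hz => ((show Commute x z from hx.2.1 z hz).inv_left).eq,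
    by rw [inv_pow, hx.2.2, inv_one]⟩

theorem G3_center : ∀ z : Gl.G3, (∀ g, g * z = z * g) → z = 1 := by
  intro z hz
  by_contra hne
  have htop := Gl.normal_eq_top (center Gl.G3) fun e => hne (by
    have : z ∈ center Gl.G3 := mem_center_iff.2 hz
    rwa [e, mem_bot] at this)
  obtain ⟨a, ha⟩ := Gl.exists_enc (a := Gl.swapA) (by decide)
  obtain ⟨b, hb⟩ := Gl.exists_enc (a := Gl.swapB) (by decide)
  have h1 : b * a = a * b := mem_center_iff.1 (htop.ge (mem_top a)) b
  have h2 := congrArg Gl.enc h1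
  rw [Gl.enc_mul, Gl.enc_mul, ha, hb] at h2
  revert h2
  decide

/-- A group mapping onto `GL(3, 2)` with kernel of odd order cannot act faithfully on a group of order 49. -/
theorem no_action_seven {Q : Type*} [Group Q] [Finite Q] {B : Type*} [CommGroup B] [Finite B]
    (hexp : ∀ x : B, x ^ 7 = 1) (hcard : Nat.card B = 49) (θ : Q →* MulAut B) (π : Q →* Gl.G3)
    (hπ : Function.Surjective π) (hker : Odd (Nat.card π.ker)) (hθ : θ.ker ≤ π.ker) : False := by
  haveI : Fact (Nat.Prime 2) := ⟨Nat.prime_two⟩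
  obtain ⟨a, b, ha1, hb1, hab, haa, hbb, habc⟩ := Gl.exists_four
  set H := (Subgroup.closure ({a, b} : Set Gl.G3)).comap π with hH
  obtain ⟨S⟩ := (inferInstance : Nonempty (Sylow 2 ↥H))
  have hodd1 : ∀ s : Q, π s = 1 → orderOf s ∣ 2 ^ 14 → s = 1 := fun s hs hd => by
    have h1 : orderOf s ∣ Nat.card π.ker := by
      rw [← orderOf_mk (H := π.ker) s hs]
      exact orderOf_dvd_natCard _
    obtain ⟨i, -, hi⟩ := (Nat.dvd_prime_pow Nat.prime_two).1 hd
    rcases Nat.eq_zero_or_pos i with rfl | hpos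
    · exact orderOf_eq_one_iff.1 hi
    · exact absurd ((dvd_pow_self 2 hpos.ne').trans (hi ▸ h1)) fun he =>
        Nat.not_even_iff_odd.2 hker (even_iff_two_dvd.2 he)
  let πH : ↥H →* ↥(Subgroup.closure ({a, b} : Set Gl.G3)) := π.subgroupComap _
  have hπH : Function.Surjective πH := fun y => by
    obtain ⟨q, hq⟩ := hπ y
    exact ⟨⟨q, by rw [hH, mem_comap, hq]; exact y.2⟩, Subtype.ext hq⟩
  have hcl : IsPGroup 2 ↥(Subgroup.closure ({a, b} : Set Gl.G3)) := by
    intro x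
    refine ⟨1, Subtype.ext ?_⟩
    show (x : Gl.G3) ^ 2 ^ 1 = 1
    rw [pow_one, pow_two]
    have hstep : ∀ (y c : Gl.G3), (c = a ∨ c = b) → y * y = 1 → y * a = a * y → y * b = b * y →
        y * c * (y * c) = 1 ∧ y * c * a = a * (y * c) ∧ y * c * b = b * (y * c) := by
      intro y c hc h1 h3 h4
      have hca : c * a = a * c := by rcases hc with rfl | rfl <;> simp [habc]
      have hcb : c * b = b * c := by rcases hc with rfl | rfl <;> simp [habc]
      have hcc : c * c = 1 := by rcases hc with rfl | rfl <;> assumption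
      have hyc : y * c = c * y := by rcases hc with rfl | rfl <;> assumption
      refine ⟨?_, ?_, ?_⟩
      · rw [mul_assoc, ← mul_assoc c, ← hyc, mul_assoc y c, hcc, mul_one, h1]
      · rw [mul_assoc, hca, ← mul_assoc, h3, mul_assoc]
      · rw [mul_assoc, hcb, ← mul_assoc, h4, mul_assoc]
    suffices key : (x : Gl.G3) * x = 1 ∧ (x : Gl.G3) * a = a * x ∧ (x : Gl.G3) * b = b * x from key.1
    refine Subgroup.closure_induction_right (p := fun y _ => y * y = 1 ∧ y * a = a * y ∧ y * b = b * y)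
      ⟨one_mul 1, by rw [one_mul, mul_one], by rw [one_mul, mul_one]⟩
      (fun y _ c hc ih => hstep y c hc ih.1 ih.2.1 ih.2.2) (fun y _ c hc ih => ?_) x.2
    have hinv : c⁻¹ = c := by
      rcases hc with rfl | rfl
      · exact inv_eq_of_mul_eq_one_right haa
      · exact inv_eq_of_mul_eq_one_right hbb
    rw [hinv]
    exact hstep y c hc ih.1 ih.2.1 ih.2.2
  have hsurj : ∀ y : ↥(Subgroup.closure ({a, b} : Set Gl.G3)), ∃ s ∈ (S : Subgroup ↥H), πH s = y := by
    have htop : ((S.mapSurjective hπH : Sylow 2 _) : Subgroup ↥(Subgroup.closure ({a, b} : Set Gl.G3))) = ⊤ :=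
      ((S.mapSurjective hπH).is_maximal' (hcl.to_subgroup ⊤) le_top).symm
    intro y
    have hy : y ∈ ((S.mapSurjective hπH : Sylow 2 _) : Subgroup ↥(Subgroup.closure ({a, b} : Set Gl.G3))) := by
      rw [htop]; exact mem_top y
    rw [Sylow.coe_mapSurjective] at hy
    exact hy
  obtain ⟨x, hx, hxa⟩ := hsurj ⟨a, Subgroup.subset_closure (Or.inl rfl)⟩
  obtain ⟨y, hy, hyb⟩ := hsurj ⟨b, Subgroup.subset_closure (Or.inr rfl)⟩
  have hxa' : π (x : Q) = a := congrArg Subtype.val hxa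
  have hyb' : π (y : Q) = b := congrArg Subtype.val hyb
  have htriv : ∀ s ∈ (S : Subgroup ↥H), π (s : Q) = 1 → (s : Q) = 1 := fun s hs h1 => by
    refine hodd1 _ h1 ?_
    obtain ⟨j, hj⟩ := S.isPGroup' ⟨s, hs⟩
    have h2 : orderOf (s : Q) ∣ 2 ^ j := orderOf_dvd_of_pow_eq_one
      (congrArg (fun z : ↥(S : Subgroup ↥H) => ((z : ↥H) : Q)) hj)
    have h3 : orderOf (s : Q) ∣ Nat.card π.ker := by
      rw [← orderOf_mk (H := π.ker) (s : Q) h1]
      exact orderOf_dvd_natCard _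
    have h4 : orderOf (s : Q) ∣ Nat.gcd (2 ^ j) (Nat.card π.ker) := Nat.dvd_gcd h2 h3
    rw [show Nat.gcd (2 ^ j) (Nat.card π.ker) = 1 from
      Nat.Coprime.pow_left j (Nat.coprime_two_left.2 hker), Nat.dvd_one] at h4
    rw [h4]
    exact one_dvd _
  have hxx : (x : Q) * x = 1 := htriv (x * x) (mul_mem hx hx) (by
    rw [Subgroup.coe_mul, map_mul, hxa', haa])
  have hyy : (y : Q) * y = 1 := htriv (y * y) (mul_mem hy hy) (by
    rw [Subgroup.coe_mul, map_mul, hyb', hbb])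
  have hxy : (x : Q) * y = y * x := by
    refine inv_mul_eq_one.1 ?_
    exact htriv ((x * y)⁻¹ * (y * x)) (mul_mem (inv_mem (mul_mem hx hy)) (mul_mem hy hx)) (by
      simp only [Subgroup.coe_mul, Subgroup.coe_inv, map_mul, map_inv, hxa', hyb', habc, inv_mul_cancel])
  have hθ1 : ∀ q : Q, θ q = 1 → π q = 1 := fun q hq => MonoidHom.mem_ker.1 (hθ (MonoidHom.mem_ker.2 hq))
  obtain ⟨γ, hγ, hinv⟩ := exists_inversion hexp hcard (α := θ x) (β := θ y)
    (by rw [← map_mul, hxx, map_one]) (fun e => ha1 (hxa' ▸ hθ1 _ e))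
    (by rw [← map_mul, hyy, map_one]) (fun e => hb1 (hyb' ▸ hθ1 _ e))
    (fun e => hab (by
      have h1 := hθ1 ((x : Q) * (y : Q)⁻¹) (by rw [map_mul, map_inv, e, mul_inv_cancel])
      rwa [map_mul, map_inv, mul_inv_eq_one, hxa', hyb'] at h1))
    (by rw [← map_mul, ← map_mul, hxy])
  have hcen : ∀ (q r : Q), θ q = γ → π q * π r = π r * π q := fun q r hq => by
    have h1 : θ (q * r * (r * q)⁻¹) = 1 := by
      rw [map_mul, map_inv, map_mul, map_mul, hq, mul_inv_eq_one]
      refine MulEquiv.ext fun z => ?_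
      show γ (θ r z) = θ r (γ z)
      rw [hinv, hinv, map_inv]
    have h2 := hθ1 _ h1
    rwa [map_mul, map_inv, map_mul, map_mul, mul_inv_eq_one] at h2
  have key : ∀ (q : Q) (c : Gl.G3), θ q = γ → π q = c → c ≠ 1 → False := fun q c hq hc hne =>
    hne (G3_center c fun g => by
      obtain ⟨r, rfl⟩ := hπ g
      rw [← hc, hcen q r hq])
  rcases hγ with e | e | e
  · exact key x a e.symm hxa' ha1
  · exact key y b e.symm hyb' hb1
  · exact key (x * y) (a * b) (by rw [map_mul, e]) (by rw [map_mul, hxa', hyb']) fun e' => hab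
      ((eq_inv_of_mul_eq_one_left e').trans (inv_eq_of_mul_eq_one_right hbb))

variable (h : RudType.Hyp W) (h2 : ∀ H : Subgroup G, H.index ≠ 2)
include h h2

/-- Elements of `N(W)` centralising the derived group act trivially modulo it. -/
theorem cent_acts_trivially {n : G} (hn : n ∈ nG T W) (hc : n ∈ centralizer (dG T W : Set G)) :
    ∀ w ∈ wG T W, ⁅n, w⁆ ∈ dG T W := by
  haveI : Fact (Nat.Prime 2) := ⟨Nat.prime_two⟩
  haveI hD : ((dG T W).subgroupOf (wG T W)).Normal := ⟨fun d hd g => by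
    rwa [show g * d * g⁻¹ = d from Subtype.ext (by
      show (g : G) * d * (g : G)⁻¹ = d
      rw [← dG_cent h (mem_subgroupOf.1 hd) g.2, mul_inv_cancel_right])]⟩
  obtain ⟨ρ, hρ, hU⟩ := exists_action h
  have hs := surjective_on_nG h h2 hρ hU
  set σ := ρ.comp (Subgroup.inclusion (nG_le_mG h)) with hσ
  obtain ⟨Ψ, hΨ⟩ := exists_psi h
  set π := Ψ.rangeRestrict with hπ
  have hπs : Function.Surjective π := Ψ.rangeRestrict_surjective
  have hkle : π.ker ≤ σ.ker := fun m hm => by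
    rw [MonoidHom.mem_ker] at hm ⊢
    exact (hρ _).2 (trivial_le_cent h ((hΨ m).1 (congrArg Subtype.val hm)))
  let σ' : ↥Ψ.range →* Gl.G3 := π.liftOfSurjective hπs ⟨σ, hkle⟩
  have hσπ : ∀ m, σ' (π m) = σ m := fun m => MonoidHom.liftOfRightInverse_comp_apply _ _ _ _ m
  have hπ1 : ∀ m : ↥(nG T W), (∀ w ∈ wG T W, ⁅(m : G), w⁆ ∈ dG T W) → π m = 1 :=
    fun m hm => Subtype.ext ((hΨ m).2 hm)
  obtain ⟨hXcard, hodd⟩ := image_cards h π hπs σ' (fun y => by
    obtain ⟨m, rfl⟩ := hs y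
    exact ⟨m, hσπ m⟩) fun m hm => hπ1 m fun w hw => wG_comm h hm hw
  suffices hbot : σ'.ker = ⊥ by
    have h1 : π ⟨n, hn⟩ ∈ σ'.ker := by
      rw [MonoidHom.mem_ker, hσπ]
      exact (hρ _).2 hc
    rw [hbot, mem_bot] at h1
    exact (hΨ ⟨n, hn⟩).1 (congrArg Subtype.val h1)
  by_contra hne
  have hne1 : Nat.card σ'.ker ≠ 1 := fun e => hne (Subgroup.eq_bot_of_card_eq _ e)
  obtain ⟨p, hp, hpd⟩ := Nat.exists_prime_and_dvd hne1
  haveI : Fact p.Prime := ⟨hp⟩
  have hp2 : p ≠ 2 := fun e => Nat.not_even_iff_odd.2 hodd (even_iff_two_dvd.2 (e ▸ hpd))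
  obtain ⟨P⟩ := (inferInstance : Nonempty (Sylow p ↥σ'.ker))
  have hP1 : (P : Subgroup ↥σ'.ker) ≠ ⊥ := P.ne_bot_of_dvd_card hpd
  set PX := (P : Subgroup ↥σ'.ker).map σ'.ker.subtype with hPX
  have hfrat := Sylow.normalizer_sup_eq_top P
  set NP := normalizer (PX : Set ↥Ψ.range) with hNP
  set B := zOne PX p with hB
  obtain ⟨z₀, hz₀, hz₀1⟩ : ∃ z ∈ B, z ≠ 1 := by
    haveI : Nontrivial ↥(P : Subgroup ↥σ'.ker) := (nontrivial_iff_ne_bot _).2 hP1
    haveI := P.isPGroup'.center_nontrivial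
    have hd : p ∣ Nat.card (center ↥(P : Subgroup ↥σ'.ker)) := by
      obtain ⟨i, hi⟩ := (P.isPGroup'.to_subgroup (center _)).exists_card_eq
      rcases Nat.eq_zero_or_pos i with rfl | hpos
      · rw [pow_zero] at hi
        exact absurd hi (Finite.one_lt_card (α := center ↥(P : Subgroup ↥σ'.ker))).ne'
      · rw [hi]; exact dvd_pow_self p hpos.ne'
    obtain ⟨c, hc⟩ := exists_prime_orderOf_dvd_card' (G := center ↥(P : Subgroup ↥σ'.ker)) p hd
    refine ⟨(((c : ↥(P : Subgroup ↥σ'.ker)) : ↥σ'.ker) : ↥Ψ.range), ⟨⟨_, (c : ↥(P : Subgroup ↥σ'.ker)).2, rfl⟩,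
      ?_, ?_⟩, fun e => ?_⟩
    · rintro _ ⟨y, hy, rfl⟩
      exact (congrArg (fun z : ↥(P : Subgroup ↥σ'.ker) => ((z : ↥σ'.ker) : ↥Ψ.range))
        (mem_center_iff.1 c.2 ⟨y, hy⟩)).symm
    · have := pow_orderOf_eq_one c
      rw [hc] at this
      exact congrArg (fun z : center ↥(P : Subgroup ↥σ'.ker) => (((z : ↥(P : Subgroup ↥σ'.ker)) : ↥σ'.ker) : ↥Ψ.range)) this
    · rw [show c = 1 from Subtype.ext (Subtype.ext (Subtype.ext e)), orderOf_one] at hc
      exact hp.one_lt.ne hc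
  have hBker : ∀ x ∈ B, σ' x = 1 := fun x hx => by
    obtain ⟨y, -, rfl⟩ := hx.1
    exact y.2
  letI : CommGroup ↥B := { (inferInstance : Group ↥B) with
    mul_comm := fun x y => Subtype.ext (x.2.2.1 y y.2.1) }
  have hNB : ∀ m ∈ NP, ∀ x ∈ B, m * x * m⁻¹ ∈ B := fun m hm x hx => by
    have hn1 := mem_normalizer_iff.1 hm
    refine ⟨(hn1 x).1 hx.1, fun y hy => ?_, by rw [conj_pow, hx.2.2, mul_one, mul_inv_cancel]⟩
    have h1 := hx.2.1 (m⁻¹ * y * m) ((hn1 _).2 (by rwa [show m * (m⁻¹ * y * m) * m⁻¹ = y by group]))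
    calc m * x * m⁻¹ * y = m * (x * (m⁻¹ * y * m)) * m⁻¹ := by group
      _ = m * ((m⁻¹ * y * m) * x) * m⁻¹ := by rw [h1]
      _ = y * (m * x * m⁻¹) := by group
  have hNBN : NP ≤ normalizer (B : Set ↥Ψ.range) := fun m hm => by
    rw [mem_normalizer_iff]
    refine fun x => ⟨hNB m hm x, fun hx => ?_⟩
    have := hNB m⁻¹ (inv_mem hm) _ hx
    rwa [show m⁻¹ * (m * x * m⁻¹) * m⁻¹⁻¹ = x by group] at this
  let θ : ↥NP →* MulAut ↥B := (normalizerMonoidHom B).comp (Subgroup.inclusion hNBN)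
  let σN : ↥NP →* Gl.G3 := σ'.comp NP.subtype
  have hσN : Function.Surjective σN := fun y => by
    obtain ⟨m, rfl⟩ := hs y
    have hm : π m ∈ NP ⊔ σ'.ker := hfrat.ge (mem_top _)
    obtain ⟨q, hq, a, ha, e⟩ := mem_sup_of_normal_right.1 hm
    exact ⟨⟨q, hq⟩, by rw [← hσπ m, ← e, map_mul, MonoidHom.mem_ker.1 ha, mul_one]; rfl⟩
  have hkodd : Odd (Nat.card σN.ker) := by
    refine hodd.of_dvd_nat ?_
    rw [← card_map_of_injective NP.subtype_injective]
    exact card_dvd_of_le (by rintro _ ⟨q, hq, rfl⟩; exact hq)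
  by_cases hK0 : θ.ker ≤ σN.ker
  · obtain ⟨r, hr, haut⟩ := SqClass.card_mulAut_elem (r := p) (M := ↥B) mul_comm
      fun x => Subtype.ext x.2.2.2
    have h168 : 168 ∣ Nat.card (MulAut ↥B) := by
      have h1 := index_dvd_of_le hK0
      rw [index_ker, index_ker, MonoidHom.range_eq_top.2 hσN, card_top, card_G3] at h1
      exact h1.trans (Subgroup.card_subgroup_dvd_card _)
    have hr1 : 1 ≤ r := by
      rcases Nat.eq_zero_or_pos r with rfl | hpos
      · rw [pow_zero] at hr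
        haveI := (Nat.card_eq_one_iff_unique.1 hr).1
        exact absurd (congrArg Subtype.val (Subsingleton.elim (⟨z₀, hz₀⟩ : ↥B) 1)) hz₀1
      · exact hpos
    have hdvd : p ^ r ∣ gl8 := by
      rw [← hr, ← card_aut_quot h]
      exact (Subgroup.card_subgroup_dvd_card _).trans (Subgroup.card_subgroup_dvd_card Ψ.range)
    obtain ⟨rfl, rfl⟩ := rank_bound hp hp2 hr1 hdvd (haut ▸ h168)
    exact no_action_seven (B := ↥B) (fun x => Subtype.ext x.2.2.2) (by rw [hr]; rfl) θ σN hσN hkodd hK0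
  · -- a Sylow subgroup centralises a nontrivial element
    have htop : θ.ker.map σN = ⊤ := by
      haveI : (θ.ker.map σN).Normal := (inferInstance : θ.ker.Normal).map σN hσN
      refine Gl.normal_eq_top _ fun e => hK0 ?_
      rwa [Subgroup.map_eq_bot_iff] at e
    obtain ⟨Q⟩ := (inferInstance : Nonempty (Sylow 2 ↥θ.ker))
    have h8 : 8 ≤ Nat.card ↥(Q : Subgroup ↥θ.ker) := by
      rw [Q.card_eq_multiplicity]
      have h1 : 2 ^ 3 ∣ Nat.card ↥θ.ker := by
        refine Dvd.dvd.trans ?_ (θ.ker.card_map_dvd σN)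
        rw [htop, card_top, card_G3]
        norm_num
      have h3 := (Nat.prime_two.pow_dvd_iff_le_factorization Nat.card_pos.ne').1 h1
      calc (8 : ℕ) = 2 ^ 3 := rfl
        _ ≤ _ := Nat.pow_le_pow_right two_pos h3
    set S := ((Q : Subgroup ↥θ.ker).map θ.ker.subtype).map NP.subtype with hS
    have hSc : ∀ s ∈ S, s * z₀ = z₀ * s := by
      rintro _ ⟨q, ⟨q', -, rfl⟩, rfl⟩
      have h1 := DFunLike.congr_fun (MonoidHom.mem_ker.1 q'.2) (⟨z₀, hz₀⟩ : ↥B)
      exact mul_inv_eq_iff_eq_mul.1 (congrArg Subtype.val h1)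
    have hSp : IsPGroup 2 ↥S := (Q.isPGroup'.map _).map _
    have hScard : 8 ≤ Nat.card ↥S := by
      rw [hS, card_map_of_injective NP.subtype_injective, card_map_of_injective θ.ker.subtype_injective]
      exact h8
    -- compare with the image of the Sylow subgroup
    set TX := ((T : Subgroup G).subgroupOf (nG T W)).map π with hTX
    have hTXp : IsPGroup 2 ↥TX := (T.subtype (T_le_nG h)).isPGroup'.map π
    obtain ⟨R₁, hR₁⟩ := hSp.exists_le_sylow
    obtain ⟨R₂, hR₂⟩ := hTXp.exists_le_sylow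
    have hR8 : ∀ R : Sylow 2 ↥Ψ.range, Nat.card ↥(R : Subgroup ↥Ψ.range) ≤ 8 := fun R => by
      obtain ⟨i, hi⟩ := R.isPGroup'.exists_card_eq
      have hd := Subgroup.card_subgroup_dvd_card (R : Subgroup ↥Ψ.range)
      rw [hXcard, hi] at hd
      have hd8 : 2 ^ i ∣ 2 ^ 3 := by
        have hcop : (2 ^ i).Coprime (Nat.card σ'.ker * 21) := by
          refine (Nat.coprime_two_left.2 ?_).pow_left i
          exact hodd.mul (by decide)
        exact hcop.dvd_of_dvd_mul_left (by rwa [mul_assoc, show 21 * 2 ^ 3 = 168 from rfl])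
      rw [hi]
      exact Nat.le_of_dvd (by norm_num) hd8
    have hSR : S = (R₁ : Subgroup ↥Ψ.range) :=
      Subgroup.eq_of_le_of_card_ge hR₁ ((hR8 R₁).trans hScard)
    obtain ⟨g, hg⟩ := MulAction.exists_smul_eq ↥Ψ.range R₁ R₂
    set b := g * z₀ * g⁻¹ with hb
    have hbker : b ∈ σ'.ker := (inferInstance : σ'.ker.Normal).conj_mem _ (MonoidHom.mem_ker.2 (hBker z₀ hz₀)) g
    have hbodd : Odd (orderOf b) := by
      refine hodd.of_dvd_nat ?_
      rw [← orderOf_mk (H := σ'.ker) b hbker]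
      exact orderOf_dvd_natCard _
    have hbT : ∀ t : ↥(nG T W), (t : G) ∈ (T : Subgroup G) → b * π t = π t * b := by
      intro t ht
      have h1 : π t ∈ ((g • R₁ : Sylow 2 ↥Ψ.range) : Subgroup ↥Ψ.range) := by
        rw [hg]
        exact hR₂ ⟨t, mem_subgroupOf.2 ht, rfl⟩
      rw [Sylow.smul_def, Sylow.pointwise_smul_def, Subgroup.mem_pointwise_smul_iff_inv_smul_mem] at h1
      rw [← hSR] at h1
      have h3 := hSc _ h1
      have h4 : (MulAut.conj g)⁻¹ • π t = g⁻¹ * π t * g := by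
        rw [← map_inv]; show g⁻¹ * π t * g⁻¹⁻¹ = _; rw [inv_inv]
      rw [h4] at h3
      calc b * π t = g * (z₀ * (g⁻¹ * π t * g)) * g⁻¹ := by rw [hb]; group
        _ = g * (g⁻¹ * π t * g * z₀) * g⁻¹ := by rw [h3]
        _ = π t * b := by rw [hb]; group
    obtain ⟨k, hk⟩ := hπs b
    have hb1 : b = 1 := by
      rw [← hk]
      refine commuting_trivial h π (fun m hm => hπ1 m fun w hw => ?_) (hk ▸ hbodd) fun t ht => hk ▸ hbT t ht
      rw [commutatorElement_eq_one_iff_mul_comm.2 (mem_centralizer_iff.1 hm w (wG_le h hw)).symm]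
      exact one_mem _
    exact hz₀1 (by rwa [hb, mul_inv_eq_one, mul_eq_left] at hb1)

end Cfsg.Agent.Fus.RudTransfer
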