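import Cfsg.Agent.Lib.Fus.RudTransfer.Kill
import Cfsg.Agent.Lib.Grp.Cores
import Cfsg.Prelude.Def_CaseTheorems

/-!
# The normalizer of the derived group of `W`

Its part centralising the derived group is `W` times a subgroup of odd order, by Burnside's transfer theorem, and it
induces `GL(3, 2)`.
-/

set_option autoImplicit false
set_option linter.unusedSectionVars false
set_option linter.style.haveILetI false

open scoped commutatorElement

namespace Cfsg.Agent.Fus.RudTransfer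

open Subgroup RudType

theorem mem_of_odd_of_two_quotient {H : Type*} [Group H] [Finite H] {N : Subgroup H} [N.Normal] {k : ℕ}
    (hN : N.index ∣ 2 ^ k) {x : H} (hx : Odd (orderOf x)) : x ∈ N := by
  rw [← QuotientGroup.eq_one_iff (N := N), ← orderOf_eq_one_iff]
  have h1 : orderOf (x : H ⧸ N) ∣ orderOf x := orderOf_map_dvd (QuotientGroup.mk' N) x
  have h2 : orderOf (x : H ⧸ N) ∣ 2 ^ k := (_root_.orderOf_dvd_natCard _).trans hN
  exact Nat.dvd_one.1 ((Nat.coprime_two_left.2 hx).pow_left k ▸ Nat.dvd_gcd h2 h1)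

variable {G : Type*} [Group G] [Finite G] {T : Sylow 2 G} {W : Subgroup ↥(T : Subgroup G)}
variable (h : RudType.Hyp W) (h2 : ∀ H : Subgroup G, H.index ≠ 2)
include h h2

/-- The centraliser of the derived group has a normal complement to `W`. -/
theorem exists_complement : ∃ N : Subgroup G, N ≤ centralizer (dG T W : Set G) ∧ Odd (Nat.card N) ∧
    (∀ m ∈ mG T W, ∀ x ∈ N, m * x * m⁻¹ ∈ N) ∧
    ∀ c ∈ centralizer (dG T W : Set G), ∃ w ∈ wG T W, ∃ x ∈ N, c = w * x := by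
  haveI : Fact (Nat.Prime 2) := ⟨Nat.prime_two⟩
  obtain ⟨ρ, hρ, hU⟩ := exists_action h
  have hs := surjective_on_nG h h2 hρ hU
  have hρs : Function.Surjective ρ := fun y => by
    obtain ⟨m, rfl⟩ := hs y
    exact ⟨_, rfl⟩
  set C := centralizer (dG T W : Set G) with hC
  have hWC : wG T W ≤ C := fun w hw => (T_inf_cent h (wG_le h hw)).2 hw
  set WC := (wG T W).subgroupOf C with hWCdef
  have hWp : IsPGroup 2 ↥WC :=
    IsPGroup.of_injective (T.isPGroup'.to_le (wG_le h)) (subgroupOfEquivOfLe hWC).toMonoidHom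
      (subgroupOfEquivOfLe hWC).injective
  have hidx : ¬ 2 ∣ WC.index := by
    intro hd
    obtain ⟨k, hk⟩ := hd
    have h1 := ρ.ker.card_mul_index
    rw [index_ker, MonoidHom.range_eq_top.2 hρs, card_top, card_G3] at h1
    have hker : Nat.card ↥ρ.ker = Nat.card ↥C := by
      rw [show ρ.ker = C.subgroupOf (mG T W) from by ext m; rw [MonoidHom.mem_ker, mem_subgroupOf]; exact hρ m]
      exact Nat.card_congr (subgroupOfEquivOfLe (cent_le_mG h)).toEquiv
    have h3 := WC.card_mul_index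
    rw [Nat.card_congr (subgroupOfEquivOfLe hWC).toEquiv, card_wG h, hk] at h3
    set S := T.subtype (T_le_mG h)
    have h4 := (S : Subgroup ↥(mG T W)).card_mul_index
    rw [show Nat.card ↥(S : Subgroup ↥(mG T W)) = 2 ^ 14 from
      (Nat.card_congr (subgroupOfEquivOfLe (T_le_mG h)).toEquiv).trans h.counts.1, ← h1, hker, ← h3] at h4
    refine S.not_dvd_index ⟨21 * k, ?_⟩
    refine Nat.eq_of_mul_eq_mul_left (show 0 < 2 ^ 14 by norm_num) (h4.trans ?_)
    ring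
  set Φ := (dG T W).subgroupOf C with hΦ
  have hΦcen : ∀ d ∈ Φ, ∀ c : ↥C, c * d = d * c := fun d hd c =>
    Subtype.ext (mem_centralizer_iff.1 c.2 d (mem_subgroupOf.1 hd)).symm
  haveI hΦn : Φ.Normal := ⟨fun d hd c => by rwa [hΦcen d hd c, mul_inv_cancel_right]⟩
  set S₀ : Sylow 2 ↥C := hWp.toSylow hidx with hS₀
  have hS₀c : (S₀ : Subgroup ↥C) = WC := rfl
  let P := S₀.mapSurjective (QuotientGroup.mk'_surjective Φ)
  have hΦW : Φ ≤ WC := fun d hd => mem_subgroupOf.2 (dG_le h (mem_subgroupOf.1 hd))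
  have hPmem : ∀ c : ↥C, (c : ↥C ⧸ Φ) ∈ (P : Subgroup (↥C ⧸ Φ)) ↔ (c : G) ∈ wG T W := by
    intro c
    rw [Sylow.coe_mapSurjective, hS₀c]
    constructor
    · rintro ⟨w, hw, e⟩
      have h1 := hΦW (QuotientGroup.eq.1 e)
      have h2' := mul_mem (mem_subgroupOf.1 hw) (mem_subgroupOf.1 h1)
      simpa using h2'
    · exact fun hc => ⟨c, mem_subgroupOf.2 hc, rfl⟩
  have hP : normalizer ((P : Subgroup (↥C ⧸ Φ)) : Set (↥C ⧸ Φ)) ≤
      centralizer ((P : Subgroup (↥C ⧸ Φ)) : Set (↥C ⧸ Φ)) := by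
    intro q hq
    induction q using QuotientGroup.induction_on with
    | _ c =>
      have hcN : (c : G) ∈ nG T W := by
        have hmap : (wG T W).map (MulAut.conj (c : G)).toMonoidHom = wG T W := by
          refine Subgroup.eq_of_le_of_card_ge ?_ (card_map_of_injective (MulAut.conj (c : G)).injective).ge
          rintro _ ⟨w, hw, rfl⟩
          have h1 := (mem_normalizer_iff.1 hq _).1 ((hPmem ⟨w, hWC hw⟩).2 hw)
          rw [← QuotientGroup.mk_mul, ← QuotientGroup.mk_inv, ← QuotientGroup.mk_mul, hPmem] at h1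
          exact h1
        rw [mem_normalizer_iff]
        intro x
        constructor
        · intro hx
          rw [← hmap]
          exact ⟨x, hx, rfl⟩
        · intro hx
          rw [← hmap] at hx
          obtain ⟨y, hy, e⟩ := hx
          rwa [← (MulAut.conj (c : G)).injective e]
      rw [mem_centralizer_iff]
      intro p hp
      induction p using QuotientGroup.induction_on with
      | _ w =>
        have hw := (hPmem w).1 hp
        rw [← QuotientGroup.mk_mul, ← QuotientGroup.mk_mul, QuotientGroup.eq, mem_subgroupOf]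
        have h1 := cent_acts_trivially h h2 hcN c.2 _ ((wG T W).inv_mem hw)
        show ((w : G) * c)⁻¹ * ((c : G) * w) ∈ dG T W
        have h3 := (mem_normalizer_iff.1 (nG_le_mG h hcN) ((c : G)⁻¹ * ⁅(c : G), (w : G)⁻¹⁆⁻¹ * (c : G))).2 (by
          rw [show (c : G) * ((c : G)⁻¹ * ⁅(c : G), (w : G)⁻¹⁆⁻¹ * (c : G)) * (c : G)⁻¹ = ⁅(c : G), (w : G)⁻¹⁆⁻¹ by group]
          exact inv_mem h1)
        rw [show ((w : G) * c)⁻¹ * ((c : G) * w) = (c : G)⁻¹ * ⁅(c : G), (w : G)⁻¹⁆⁻¹ * (c : G) by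
          rw [commutatorElement_def]; group]
        exact h3
  obtain ⟨O₁, hO₁n, hcomp, hO₁odd⟩ : ∃ O₁ : Subgroup (↥C ⧸ Φ), O₁.Normal ∧
      IsComplement' O₁ (P : Subgroup (↥C ⧸ Φ)) ∧ ¬ 2 ∣ Nat.card ↥O₁ :=
    ⟨(MonoidHom.transferSylow P hP).ker, inferInstance, MonoidHom.ker_transferSylow_isComplement' P hP,
      MonoidHom.not_dvd_card_ker_transferSylow P hP⟩
  haveI := hO₁n
  set K₁ := O₁.comap (QuotientGroup.mk' Φ) with hK₁
  have hΦK : Φ ≤ K₁ := fun d hd => by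
    show QuotientGroup.mk' Φ d ∈ O₁
    rw [show QuotientGroup.mk' Φ d = 1 from (QuotientGroup.eq_one_iff d).2 hd]
    exact one_mem _
  set D₁ := Φ.subgroupOf K₁ with hD₁
  haveI : D₁.Normal := inferInstance
  have hD₁c : Nat.card ↥D₁ = 2 ^ 3 := by
    rw [Nat.card_congr (subgroupOfEquivOfLe hΦK).toEquiv,
      Nat.card_congr (subgroupOfEquivOfLe ((dG_le h).trans hWC)).toEquiv, card_dG h]
    rfl
  have hD₁i : D₁.index = Nat.card ↥O₁ := by
    have hf : D₁ = ((QuotientGroup.mk' Φ).comp K₁.subtype).ker := by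
      rw [← MonoidHom.comap_ker, QuotientGroup.ker_mk']; rfl
    rw [hf, index_ker, MonoidHom.range_comp, range_subtype, hK₁,
      map_comap_eq_self_of_surjective (QuotientGroup.mk'_surjective Φ)]
  have hD₁odd : Odd D₁.index := by
    rw [hD₁i]
    exact Nat.not_even_iff_odd.1 fun he => hO₁odd (even_iff_two_dvd.1 he)
  obtain ⟨H, hH⟩ := exists_left_complement'_of_coprime (N := D₁) (by
    rw [hD₁c]; exact (Nat.coprime_two_left.2 hD₁odd).pow_left 3)
  have hHcard : Nat.card ↥H = D₁.index := hH.index_eq_card.symm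
  have hodd_mem : ∀ x : ↥K₁, Odd (orderOf x) → x ∈ H := by
    intro x hx
    obtain ⟨⟨a, d⟩, e⟩ := hH.2 x
    have e' : (a : ↥K₁) * d = x := e
    have hcomm : Commute (a : ↥K₁) d := Subtype.ext (hΦcen _ (mem_subgroupOf.1 d.2) ((a : ↥K₁) : ↥C))
    have h1 : ((d : ↥K₁)) ^ Nat.card ↥H = x ^ Nat.card ↥H := by
      rw [← e', hcomm.mul_pow, show (a : ↥K₁) ^ Nat.card ↥H = 1 from congrArg Subtype.val (pow_card_eq_one' (x := a)),
        one_mul]
    have h3 : (d : ↥K₁) ^ 2 ^ 3 = 1 := by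
      rw [← hD₁c]; exact congrArg Subtype.val (pow_card_eq_one' (x := d))
    have h4 : orderOf (d : ↥K₁) ∣ Nat.card ↥H * orderOf x := orderOf_dvd_of_pow_eq_one (by
      rw [pow_mul, h1, ← pow_mul, mul_comm, pow_mul, pow_orderOf_eq_one, one_pow])
    have h5 : orderOf (d : ↥K₁) ∣ 2 ^ 3 := orderOf_dvd_of_pow_eq_one h3
    have hodd' : Odd (Nat.card ↥H * orderOf x) := (hHcard ▸ hD₁odd).mul hx
    have h6 : orderOf (d : ↥K₁) = 1 :=
      Nat.dvd_one.1 ((Nat.coprime_two_left.2 hodd').pow_left 3 ▸ Nat.dvd_gcd h5 h4)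
    rw [← e', orderOf_eq_one_iff.1 h6, mul_one]
    exact a.2
  set N := (H.map K₁.subtype).map C.subtype with hNdef
  have hNodd : Odd (Nat.card ↥N) := by
    rw [hNdef, card_map_of_injective C.subtype_injective, card_map_of_injective K₁.subtype_injective, hHcard]
    exact hD₁odd
  have hNmem : ∀ x : G, x ∈ C → Odd (orderOf x) → x ∈ N := by
    intro x hx ho
    have hq : ((⟨x, hx⟩ : ↥C) : ↥C ⧸ Φ) ∈ O₁ := by
      obtain ⟨j, hj⟩ := P.isPGroup'.exists_card_eq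
      refine mem_of_odd_of_two_quotient (k := j) (by rw [hcomp.symm.index_eq_card, hj]) ?_
      exact ho.of_dvd_nat ((orderOf_map_dvd (QuotientGroup.mk' Φ) (⟨x, hx⟩ : ↥C)).trans (orderOf_mk x hx).dvd)
    have hK : (⟨x, hx⟩ : ↥C) ∈ K₁ := hq
    exact ⟨⟨x, hx⟩, ⟨⟨⟨x, hx⟩, hK⟩, hodd_mem _ (by rw [orderOf_mk, orderOf_mk]; exact ho), rfl⟩, rfl⟩
  have hNC : N ≤ C := map_subtype_le _
  refine ⟨N, hNC, hNodd, fun m hm x hx => ?_, fun c hc => ?_⟩
  · have hxo : Odd (orderOf x) := by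
      refine hNodd.of_dvd_nat ?_
      exact Subgroup.orderOf_dvd_natCard _ hx
    refine hNmem _ ?_ ?_
    · rw [mem_centralizer_iff]
      intro d hd
      have h1 := (mem_normalizer_iff''.1 hm d).1 hd
      have h3 := mem_centralizer_iff.1 (hNC hx) _ h1
      calc d * (m * x * m⁻¹) = m * (m⁻¹ * d * m * x) * m⁻¹ := by group
        _ = m * (x * (m⁻¹ * d * m)) * m⁻¹ := by rw [h3]
        _ = m * x * m⁻¹ * d := by group
    · rw [show m * x * m⁻¹ = MulAut.conj m x from rfl, MulEquiv.orderOf_eq]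
      exact hxo
  · obtain ⟨⟨o, p⟩, e⟩ := hcomp.symm.2 ((⟨c, hc⟩ : ↥C) : ↥C ⧸ Φ)
    obtain ⟨w, hwo⟩ := QuotientGroup.mk_surjective (o : ↥C ⧸ Φ)
    have hw : ((w : ↥C) : G) ∈ wG T W := (hPmem w).1 (by rw [hwo]; exact o.2)
    have hr : (w : ↥C)⁻¹ * ⟨c, hc⟩ ∈ K₁ := by
      show QuotientGroup.mk' Φ ((w : ↥C)⁻¹ * ⟨c, hc⟩) ∈ O₁
      rw [map_mul, map_inv]
      show (w : ↥C ⧸ Φ)⁻¹ * ((⟨c, hc⟩ : ↥C) : ↥C ⧸ Φ) ∈ O₁
      rw [← show ((w : ↥C) : ↥C ⧸ Φ) * (p : ↥C ⧸ Φ) = ((⟨c, hc⟩ : ↥C) : ↥C ⧸ Φ) by rw [hwo]; exact e, inv_mul_cancel_left]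
      exact p.2
    obtain ⟨⟨a, d⟩, ea⟩ := hH.2 ⟨_, hr⟩
    have ea' : (((a : ↥K₁) : ↥C) : G) * (((d : ↥K₁) : ↥C) : G) = ((w : ↥C) : G)⁻¹ * c :=
      congrArg (fun z : ↥K₁ => ((z : ↥C) : G)) ea
    have hdD : (((d : ↥K₁) : ↥C) : G) ∈ dG T W := mem_subgroupOf.1 (mem_subgroupOf.1 d.2)
    refine ⟨(w : G) * (((d : ↥K₁) : ↥C) : G), mul_mem hw (dG_le h hdD), (((a : ↥K₁) : ↥C) : G),
      ⟨_, ⟨_, a.2, rfl⟩, rfl⟩, ?_⟩
    have hac := mem_centralizer_iff.1 ((a : ↥K₁) : ↥C).2 _ hdD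
    rw [mul_assoc, hac, ea', mul_inv_cancel_left]

/-- The two conclusions. -/
theorem structure_normalizer :
    ((nG T W).subgroupOf (mG T W) ⊔ Cfsg.oddCore ↥(mG T W) = ⊤) ∧
      ∃ (_ : ((wG T W).subgroupOf (nG T W) ⊔ Cfsg.oddCore ↥(nG T W)).Normal),
        Nonempty (↥(nG T W) ⧸ ((wG T W).subgroupOf (nG T W) ⊔ Cfsg.oddCore ↥(nG T W)) ≃* GL (Fin 3) (ZMod 2)) := by
  haveI : Fact (Nat.Prime 2) := ⟨Nat.prime_two⟩
  obtain ⟨ρ, hρ, hU⟩ := exists_action h
  have hs := surjective_on_nG h h2 hρ hU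
  obtain ⟨N, hNC, hNodd, hNnorm, hNcov⟩ := exists_complement h h2
  set σ := ρ.comp (Subgroup.inclusion (nG_le_mG h)) with hσ
  have hnormal : ∀ (K : Subgroup G), K ≤ mG T W → ((N.subgroupOf K).Normal) := fun K hK =>
    ⟨fun x hx g => mem_subgroupOf.2 (hNnorm g (hK g.2) _ (mem_subgroupOf.1 hx))⟩
  have hcop : ∀ (K : Subgroup G), (Nat.card ↥(N.subgroupOf K)).Coprime 2 := fun K => by
    refine Nat.coprime_two_right.2 (hNodd.of_dvd_nat ?_)
    rw [← card_map_of_injective K.subtype_injective, subgroupOf_map_subtype]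
    exact card_dvd_of_le inf_le_left
  have hker : σ.ker = (wG T W).subgroupOf (nG T W) ⊔ Cfsg.oddCore ↥(nG T W) := by
    refine le_antisymm (fun n hn => ?_) (sup_le (fun w hw => ?_) ?_)
    · obtain ⟨w, hw, x, hx, e⟩ := hNcov _ ((hρ _).1 (MonoidHom.mem_ker.1 hn))
      have hxN : x ∈ nG T W := by
        rw [show x = w⁻¹ * ((Subgroup.inclusion (nG_le_mG h) n : ↥(mG T W)) : G) by rw [e, inv_mul_cancel_left]]
        exact mul_mem (inv_mem (le_normalizer hw)) n.2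
      rw [show n = (⟨w, le_normalizer hw⟩ : ↥(nG T W)) * ⟨x, hxN⟩ from Subtype.ext e]
      exact mul_mem (mem_sup_left (mem_subgroupOf.2 hw))
        (mem_sup_right (Grp.le_pPrimeCore (hnormal _ (nG_le_mG h)) (hcop _) (mem_subgroupOf.2 hx)))
    · exact MonoidHom.mem_ker.2 ((hρ _).2 (mem_centralizer_iff.2 fun d hd => dG_cent h hd (mem_subgroupOf.1 hw)))
    · haveI : (Cfsg.pPrimeCore 2 ↥(nG T W)).Normal := Grp.pPrimeCore_isNormal
      haveI : ((Cfsg.pPrimeCore 2 ↥(nG T W)).map σ).Normal :=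
        (inferInstance : (Cfsg.pPrimeCore 2 ↥(nG T W)).Normal).map σ hs
      rw [← Subgroup.map_eq_bot_iff]
      by_contra hne
      have h1 := (Cfsg.pPrimeCore 2 ↥(nG T W)).card_map_dvd σ
      rw [Gl.normal_eq_top _ hne, card_top, card_G3] at h1
      exact Nat.prime_two.not_dvd_one
        ((Grp.pPrimeCore_coprime (p := 2) (G := ↥(nG T W))) ▸ Nat.dvd_gcd ((by norm_num : 2 ∣ 168).trans h1) dvd_rfl)
  refine ⟨(eq_top_iff' _).2 fun m => ?_, ?_⟩
  · obtain ⟨n, hn⟩ := hs (ρ m)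
    have h1 : ρ ((Subgroup.inclusion (nG_le_mG h) n)⁻¹ * m) = 1 := by
      rw [map_mul, map_inv, show ρ (Subgroup.inclusion (nG_le_mG h) n) = ρ m from hn, inv_mul_cancel]
    obtain ⟨w, hw, x, hx, e⟩ := hNcov _ ((hρ _).1 h1)
    have e' : (m : G) = (n : G) * w * x := by
      rw [mul_assoc, ← e]
      exact (mul_inv_cancel_left (n : G) (m : G)).symm
    have hxm : x ∈ mG T W := cent_le_mG h (hNC hx)
    rw [show m = (⟨(n : G) * w, nG_le_mG h (mul_mem n.2 (le_normalizer hw))⟩ : ↥(mG T W)) * ⟨x, hxm⟩ from Subtype.ext e']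
    exact mul_mem (mem_sup_left (mem_subgroupOf.2 (mul_mem n.2 (le_normalizer hw))))
      (mem_sup_right (Grp.le_pPrimeCore (hnormal _ le_rfl) (hcop _) (mem_subgroupOf.2 hx)))
  · have hn' : ((wG T W).subgroupOf (nG T W) ⊔ Cfsg.oddCore ↥(nG T W)).Normal := hker ▸ inferInstance
    haveI := hn'
    exact ⟨hn', ⟨(QuotientGroup.quotientMulEquivOfEq hker.symm).trans (QuotientGroup.quotientKerEquivOfSurjective σ hs)⟩⟩

end Cfsg.Agent.Fus.RudTransfer
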